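import Mathlib
import Groth.Prelude.Def_Wider
import Groth.Agent.H9.TensorH1.Criterion

/-!
# Elementwise descriptions of (power torsion of) the cohomology of complexes of modules
-/

set_option autoImplicit false
universe u
open CategoryTheory CategoryTheory.Limits

namespace Groth.Agent.H9.RG

variable {A : Type u} [CommRing A] (I : Ideal A)

lemma isPowerTorsion_of_linearEquiv {M N : Type u} [AddCommGroup M] [Module A M] [AddCommGroup N]
    [Module A N] (e : M ≃ₗ[A] N) (h : LocCoh.IsPowerTorsion I M) : LocCoh.IsPowerTorsion I N := by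
  intro y
  obtain ⟨k, hk⟩ := h (e.symm y)
  refine ⟨k, fun a ha => ?_⟩
  have := hk a ha
  rw [← map_smul] at this
  exact (LinearEquiv.map_eq_zero_iff e.symm).1 this

lemma isPowerTorsion_of_iso {M N : ModuleCat.{u} A} (e : M ≅ N) (h : LocCoh.IsPowerTorsion I M) :
    LocCoh.IsPowerTorsion I N :=
  isPowerTorsion_of_linearEquiv I e.toLinearEquiv h

section ShortComplex

variable (S : ShortComplex (ModuleCat.{u} A))

lemma sc_exists_of_isPowerTorsion (hS : LocCoh.IsPowerTorsion I S.homology) (z : S.X₂)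
    (hz : S.g z = 0) : ∃ k : ℕ, ∀ a ∈ I ^ k, ∃ w : S.X₁, S.f w = a • z := by
  have hS' : LocCoh.IsPowerTorsion I S.moduleCatLeftHomologyData.H :=
    isPowerTorsion_of_iso I S.moduleCatHomologyIso hS
  let c : LinearMap.ker S.g.hom := ⟨z, hz⟩
  obtain ⟨k, hk⟩ := hS' ((LinearMap.range S.moduleCatToCycles).mkQ c)
  refine ⟨k, fun a ha => ?_⟩
  have h1 : (LinearMap.range S.moduleCatToCycles).mkQ (a • c) = 0 := by
    rw [map_smul]; exact hk a ha
  rw [Submodule.mkQ_apply, Submodule.Quotient.mk_eq_zero] at h1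
  obtain ⟨w, hw⟩ := h1
  exact ⟨w, congrArg Subtype.val hw⟩

lemma sc_isPowerTorsion_of_elem
    (h : ∀ z : S.X₂, S.g z = 0 → ∃ k : ℕ, ∀ a ∈ I ^ k, ∃ w : S.X₁, S.f w = a • z) :
    LocCoh.IsPowerTorsion I S.homology := by
  refine isPowerTorsion_of_iso I S.moduleCatHomologyIso.symm ?_
  intro x
  obtain ⟨c, rfl⟩ := Submodule.mkQ_surjective (LinearMap.range S.moduleCatToCycles) x
  obtain ⟨k, hk⟩ := h c.1 c.2
  refine ⟨k, fun a ha => ?_⟩
  obtain ⟨w, hw⟩ := hk a ha
  have h1 : (LinearMap.range S.moduleCatToCycles).mkQ (a • c) = 0 := by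
    rw [Submodule.mkQ_apply, Submodule.Quotient.mk_eq_zero]
    exact ⟨w, Subtype.ext hw⟩
  rw [map_smul] at h1
  exact h1

end ShortComplex

section Complex

variable (X : CochainComplex (ModuleCat.{u} A) ℤ)

lemma cx_exists_of_isPowerTorsion (i j k : ℤ) (hij : i + 1 = j) (hjk : j + 1 = k)
    (hX : LocCoh.IsPowerTorsion I (X.homology j)) (z : X.X j) (hz : X.d j k z = 0) :
    ∃ m : ℕ, ∀ a ∈ I ^ m, ∃ w : X.X i, X.d i j w = a • z := by
  have hi : (ComplexShape.up ℤ).prev j = i := ComplexShape.prev_eq' _ hij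
  have hk : (ComplexShape.up ℤ).next j = k := ComplexShape.next_eq' _ hjk
  have h1 : LocCoh.IsPowerTorsion I (X.sc' i j k).homology :=
    isPowerTorsion_of_iso I (ShortComplex.homologyMapIso (X.isoSc' i j k hi hk)) hX
  exact sc_exists_of_isPowerTorsion I (X.sc' i j k) h1 z hz

lemma cx_isPowerTorsion_of_elem (i j k : ℤ) (hij : i + 1 = j) (hjk : j + 1 = k)
    (h : ∀ z : X.X j, X.d j k z = 0 → ∃ m : ℕ, ∀ a ∈ I ^ m, ∃ w : X.X i, X.d i j w = a • z) :
    LocCoh.IsPowerTorsion I (X.homology j) := by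
  have hi : (ComplexShape.up ℤ).prev j = i := ComplexShape.prev_eq' _ hij
  have hk : (ComplexShape.up ℤ).next j = k := ComplexShape.next_eq' _ hjk
  refine isPowerTorsion_of_iso I (ShortComplex.homologyMapIso (X.isoSc' i j k hi hk)).symm ?_
  exact sc_isPowerTorsion_of_elem I (X.sc' i j k) h

/-- if the degree `j` term is `I`-power torsion, so is the cohomology in degree `j` -/
lemma cx_isPowerTorsion_of_X (j : ℤ) (h : LocCoh.IsPowerTorsion I (X.X j)) :
    LocCoh.IsPowerTorsion I (X.homology j) := by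
  refine cx_isPowerTorsion_of_elem I X (j - 1) j (j + 1) (by omega) rfl (fun z _ => ?_)
  obtain ⟨m, hm⟩ := h z
  exact ⟨m, fun a ha => ⟨0, by rw [map_zero, hm a ha]⟩⟩

variable {X}

lemma quasiIsoAt_of_elem {Y : CochainComplex (ModuleCat.{u} A) ℤ} (φ : X ⟶ Y) (i j k : ℤ)
    (hij : i + 1 = j) (hjk : j + 1 = k)
    (hinj : ∀ z : X.X j, X.d j k z = 0 → (∃ w : Y.X i, Y.d i j w = φ.f j z) →
      ∃ w' : X.X i, X.d i j w' = z)
    (hsurj : ∀ y : Y.X j, Y.d j k y = 0 →
      ∃ z : X.X j, X.d j k z = 0 ∧ ∃ w : Y.X i, y = φ.f j z + Y.d i j w) :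
    QuasiIsoAt φ j := by
  have hi : (ComplexShape.up ℤ).prev j = i := ComplexShape.prev_eq' _ hij
  have hk : (ComplexShape.up ℤ).next j = k := ComplexShape.next_eq' _ hjk
  rw [quasiIsoAt_iff' φ i j k hi hk, ShortComplex.quasiIso_iff]
  exact Groth.Agent.H9.TensorH1.isIso_homologyMap_of_elem
    ((HomologicalComplex.shortComplexFunctor' (ModuleCat.{u} A) (ComplexShape.up ℤ) i j k).map φ)
    hinj hsurj

end Complex

end Groth.Agent.H9.RG
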