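import Mathlib
import Groth.Prelude.Def_DRing3
import Groth.Agent.H5.KInjDeriv
import Groth.Agent.H33.KInj.Main

/-!
# `RΓ_I` on the unbounded derived category `D(A)`: the comparison map on complexes

For a complex `X` of `A`-modules, `u I X : Q(Γ_I X) ⟶ RΓ_I(Q X)` is the canonical comparison map; it is
natural in `X`, an isomorphism for K-injective `X`, and compatible with `RΓ_I ⟶ 𝟭`.
-/

set_option autoImplicit false
universe u
open CategoryTheory CategoryTheory.Limits

attribute [local instance] HasDerivedCategory.standard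

namespace Groth.Agent.H9.RG

variable {A : Type u} [CommRing A] (I : Ideal A)

/-- cochain complexes of `A`-modules -/
abbrev Cx (A : Type u) [CommRing A] := CochainComplex (ModuleCat.{u} A) ℤ

/-- the quotient functor to the homotopy category -/
noncomputable abbrev Hq (A : Type u) [CommRing A] :=
  HomotopyCategory.quotient (ModuleCat.{u} A) (ComplexShape.up ℤ)

/-- the class of quasi-isomorphisms in the homotopy category -/
abbrev Wq (A : Type u) [CommRing A] :=
  HomotopyCategory.quasiIso (ModuleCat.{u} A) (ComplexShape.up ℤ)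

/-- K-injective resolutions exist in `ModuleCat A` -/
lemma hKinj (K : Cx A) : ∃ (J : Cx A) (f : K ⟶ J), J.IsKInjective ∧ QuasiIso f := by
  obtain ⟨J, f, hJ, hf, -, -⟩ := Groth.Agent.H33.KInj.exists_kInjective_resolution K
  exact ⟨J, f, hJ, hf⟩

/-- the unbounded right derived functor `RΓ_I` exists -/
lemma hasRgammaI : DRing.HasRgammaI I :=
  Groth.Agent.H5.KInjDeriv.hasRightDerivedFunctor hKinj _

/-- `Γ_I` applied termwise -/
noncomputable abbrev Γc : Cx A ⥤ Cx A :=
  (DRing.gammaI I).mapHomologicalComplex (ComplexShape.up ℤ)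

/-- the termwise inclusion `Γ_I X ⟶ X` -/
noncomputable def ιc (X : Cx A) : (Γc I).obj X ⟶ X :=
  (NatTrans.mapHomologicalComplex (DRing.gammaIι I) (ComplexShape.up ℤ)).app X ≫
    (Functor.mapHomologicalComplexIdIso (ModuleCat.{u} A) (ComplexShape.up ℤ)).hom.app X

section

variable [DRing.HasRgammaI I]

/-- the comparison `Q(Γ_I X) ⟶ RΓ_I(Q X)` -/
noncomputable def u (X : Cx A) :
    DerivedCategory.Q.obj ((Γc I).obj X) ⟶ (DRing.RgammaI I).obj (DerivedCategory.Q.obj X) :=
  (DerivedCategory.quotientCompQhIso (ModuleCat.{u} A)).inv.app _ ≫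
    DerivedCategory.Qh.map
      (((DRing.gammaI I).mapHomotopyCategoryFactors (ComplexShape.up ℤ)).inv.app X) ≫
    ((DRing.gammaIKh I).totalRightDerivedUnit DerivedCategory.Qh (Wq A)).app ((Hq A).obj X) ≫
    (DRing.RgammaI I).map ((DerivedCategory.quotientCompQhIso (ModuleCat.{u} A)).hom.app X)

lemma isIso_u (X : Cx A) (hX : X.IsKInjective) : IsIso (u I X) := by
  have := Groth.Agent.H5.KInjDeriv.isIso_totalRightDerivedUnit_app hKinj (DRing.gammaIKh I) X hX
  unfold u
  infer_instance

lemma u_comp_ε (X : Cx A) :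
    u I X ≫ (DRing.RgammaIε I).app (DerivedCategory.Q.obj X) = DerivedCategory.Q.map (ιc I X) := by
  have nat := (DRing.RgammaIε I).naturality
    ((DerivedCategory.quotientCompQhIso (ModuleCat.{u} A)).hom.app X)
  have fac := Functor.rightDerived_fac_app (DRing.RgammaI I)
    ((DRing.gammaIKh I).totalRightDerivedUnit DerivedCategory.Qh (Wq A)) (Wq A) (𝟭 (Dual.D A))
    (DRing.gammaIτ I ≫ (Functor.rightUnitor _).inv) ((Hq A).obj X)
  have hι : (DRing.gammaIτ I).app ((Hq A).obj X) =
      DerivedCategory.Qh.map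
        (((DRing.gammaI I).mapHomotopyCategoryFactors (ComplexShape.up ℤ)).hom.app X) ≫
      DerivedCategory.Qh.map ((Hq A).map
        ((NatTrans.mapHomologicalComplex (DRing.gammaIι I) (ComplexShape.up ℤ)).app X)) ≫
      DerivedCategory.Qh.map ((Hq A).map
        ((Functor.mapHomologicalComplexIdIso (ModuleCat.{u} A) (ComplexShape.up ℤ)).hom.app X)) := by
    refine Eq.trans (show _ = NatTrans.app (DRing.gammaIτ0 I) X from rfl) ?_
    simp [DRing.gammaIτ0]
  have fac' : ((DRing.gammaIKh I).totalRightDerivedUnit DerivedCategory.Qh (Wq A)).app ((Hq A).obj X) ≫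
      (DRing.RgammaIε I).app (DerivedCategory.Qh.obj ((Hq A).obj X)) =
      (DRing.gammaIτ I).app ((Hq A).obj X) := by
    refine fac.trans ?_
    simp
  have nat' : (DRing.RgammaI I).map ((DerivedCategory.quotientCompQhIso (ModuleCat.{u} A)).hom.app X) ≫
      (DRing.RgammaIε I).app (DerivedCategory.Q.obj X) =
      (DRing.RgammaIε I).app (DerivedCategory.Qh.obj ((Hq A).obj X)) ≫
        (DerivedCategory.quotientCompQhIso (ModuleCat.{u} A)).hom.app X := nat
  unfold u ιc
  simp only [Category.assoc]
  rw [nat', reassoc_of% fac', hι]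
  simp only [Category.assoc]
  dsimp only [Hq]
  have e1 := DerivedCategory.quotientCompQhIso_hom_naturality (C := ModuleCat.{u} A)
    ((NatTrans.mapHomologicalComplex (DRing.gammaIι I) (ComplexShape.up ℤ)).app X)
  have e2 := DerivedCategory.quotientCompQhIso_hom_naturality (C := ModuleCat.{u} A)
    ((Functor.mapHomologicalComplexIdIso (ModuleCat.{u} A) (ComplexShape.up ℤ)).hom.app X)
  dsimp only [Functor.id_obj] at e1 e2
  rw [Functor.map_comp, e2, reassoc_of% e1, ← Functor.map_comp_assoc, Iso.inv_hom_id_app]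
  erw [CategoryTheory.Functor.map_id]
  rw [Category.id_comp, Iso.inv_hom_id_app_assoc]

lemma u_naturality {X Y : Cx A} (f : X ⟶ Y) :
    DerivedCategory.Q.map ((Γc I).map f) ≫ u I Y =
      u I X ≫ (DRing.RgammaI I).map (DerivedCategory.Q.map f) := by
  have n1 := ((DRing.gammaIKh I).totalRightDerivedUnit DerivedCategory.Qh (Wq A)).naturality
    ((Hq A).map f)
  have n2 := ((DRing.gammaI I).mapHomotopyCategoryFactors (ComplexShape.up ℤ)).inv.naturality f
  have n3 := DerivedCategory.quotientCompQhIso_hom_naturality (C := ModuleCat.{u} A) f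
  have n4 := (DerivedCategory.quotientCompQhIso (ModuleCat.{u} A)).inv.naturality ((Γc I).map f)
  unfold u
  dsimp only [Functor.comp_obj, Functor.comp_map] at n1 n2 n4 ⊢
  simp only [Category.assoc]
  rw [← Functor.map_comp, ← n3, Functor.map_comp]
  rw [reassoc_of% n4]
  congr 1
  rw [← Functor.map_comp_assoc, n2, Functor.map_comp_assoc]
  congr 1
  have := congrArg (fun t => t ≫ (DRing.RgammaI I).map
    ((DerivedCategory.quotientCompQhIso (ModuleCat.{u} A)).hom.app Y)) n1
  simpa only [Category.assoc] using this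

end

end Groth.Agent.H9.RG
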