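import Mathlib
import Groth.Agent.H9.RG.Basic

/-!
# Scalar multiplication on complexes and `Γ_I`
-/

set_option autoImplicit false
universe u
open CategoryTheory CategoryTheory.Limits ZeroObject

attribute [local instance] HasDerivedCategory.standard

namespace Groth.Agent.H9.RG

variable {A : Type u} [CommRing A] (I : Ideal A)

instance linear_gammaI : (DRing.gammaI I).Linear A where
  map_smul := by intros; rfl

lemma Γc_map_smul (f : A) (X : Cx A) : (Γc I).map (f • 𝟙 X) = f • 𝟙 ((Γc I).obj X) := by
  rw [Functor.map_smul, CategoryTheory.Functor.map_id]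

lemma homologyMap_smul {X Y : Cx A} (a : A) (φ : X ⟶ Y) (n : ℤ) :
    HomologicalComplex.homologyMap (a • φ) n = a • HomologicalComplex.homologyMap φ n := by
  have : (HomologicalComplex.shortComplexFunctor (ModuleCat.{u} A) (ComplexShape.up ℤ) n).map (a • φ)
      = a • (HomologicalComplex.shortComplexFunctor (ModuleCat.{u} A) (ComplexShape.up ℤ) n).map φ := rfl
  unfold HomologicalComplex.homologyMap
  rw [this]
  exact ShortComplex.homologyMap_smul _ _

/-- A complex `Y` on which multiplication by `f` is a quasi-isomorphism in degree `n`, and whose degree `n`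
term is `f`-power torsion, has no cohomology in degree `n`. -/
lemma isZero_homology_of_quasiIsoAt_smul (Y : Cx A) (f : A) (n : ℤ) (hq : QuasiIsoAt (f • 𝟙 Y) n)
    (ht : ∀ y : Y.X n, ∃ k : ℕ, f ^ k • y = 0) : IsZero (Y.homology n) := by
  have h1 : HomologicalComplex.homologyMap (f • 𝟙 Y) n = f • 𝟙 (Y.homology n) := by
    rw [homologyMap_smul, HomologicalComplex.homologyMap_id]
  have hiso : IsIso (f • 𝟙 (Y.homology n)) := by
    rw [← h1]
    exact (quasiIsoAt_iff_isIso_homologyMap _ _).1 hq
  have hb : Function.Bijective (fun x : Y.homology n => f • x) :=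
    (ConcreteCategory.isIso_iff_bijective (f • 𝟙 (Y.homology n))).1 hiso
  have htors : ∀ x : Y.homology n, ∃ k : ℕ, f ^ k • x = 0 := by
    intro x
    obtain ⟨z, rfl⟩ := (ModuleCat.epi_iff_surjective (Y.homologyπ n)).1 inferInstance x
    obtain ⟨k, hk⟩ := ht ((Y.iCycles n).hom z)
    refine ⟨k, ?_⟩
    have hz : f ^ k • z = 0 := by
      apply (ModuleCat.mono_iff_injective (Y.iCycles n)).1 inferInstance
      rw [map_smul, hk, map_zero]
    rw [← map_smul, hz, map_zero]
  have hsub : Subsingleton (Y.homology n) := by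
    refine ⟨fun x y => ?_⟩
    suffices h0 : ∀ x : Y.homology n, x = 0 by rw [h0 x, h0 y]
    intro x
    obtain ⟨k, hk⟩ := htors x
    induction k with
    | zero => simpa using hk
    | succ k ih =>
      apply ih
      apply hb.1
      show f • (f ^ k • x) = f • 0
      rw [smul_zero, ← mul_smul, ← pow_succ', hk]
  exact ModuleCat.isZero_of_subsingleton _

lemma isZero_of_isZero_homology (K : Dual.D A)
    (h : ∀ n : ℤ, IsZero ((DerivedCategory.homologyFunctor (ModuleCat.{u} A) n).obj K)) :
    IsZero K := by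
  have : IsIso (0 : K ⟶ 0) := by
    rw [DerivedCategory.isIso_iff]
    intro n
    have h0 : IsZero ((DerivedCategory.homologyFunctor (ModuleCat.{u} A) n).obj (0 : Dual.D A)) :=
      Functor.map_isZero _ (isZero_zero _)
    exact ⟨0, (h n).eq_of_src _ _, h0.eq_of_src _ _⟩
  exact IsZero.of_iso (isZero_zero _) (asIso (0 : K ⟶ 0))

lemma isZero_Q_obj_of_isZero_homology (Y : Cx A) (h : ∀ n : ℤ, IsZero (Y.homology n)) :
    IsZero (DerivedCategory.Q.obj Y) :=
  isZero_of_isZero_homology _ (fun n => IsZero.of_iso (h n)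
    ((DerivedCategory.homologyFunctorFactors (ModuleCat.{u} A) n).app Y))

/-- elements of `Γ_I M` are `f`-power torsion for `f ∈ I` -/
lemma exists_pow_smul_eq_zero_of_mem {f : A} (hf : f ∈ I) (M : ModuleCat.{u} A)
    (y : (DRing.gammaI I).obj M) : ∃ k : ℕ, f ^ k • y = 0 := by
  obtain ⟨k, hk⟩ := y.2
  exact ⟨k, Subtype.ext (hk _ (Ideal.pow_mem_pow hf k))⟩

end Groth.Agent.H9.RG
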