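import Mathlib
import Groth.Agent.H9.RG.Smul
import Groth.Agent.H9.RG.Elem
import Groth.Agent.H58.LCTorsion
import Groth.Agent.H88.InjTorsion

/-!
# `Γ_I X ⟶ X` is a quasi-isomorphism for complexes of injectives with torsion cohomology (Noetherian)
-/

set_option autoImplicit false
universe u
open CategoryTheory CategoryTheory.Limits

attribute [local instance] HasDerivedCategory.standard

namespace Groth.Agent.H9.RG

variable {A : Type u} [CommRing A] (I : Ideal A)

/-- termwise injective complexes -/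
def TermInj (X : Cx A) : Prop := ∀ n : ℤ, Injective (X.X n)

/-- complexes with `I`-power torsion cohomology -/
def CohTors (X : Cx A) : Prop := ∀ n : ℤ, LocCoh.IsPowerTorsion I (X.homology n)

lemma ιc_f_apply (X : Cx A) (n : ℤ) (y : ((Γc I).obj X).X n) :
    (ιc I X).f n y = (y : DRing.torsionSub I (X.X n)).1 := rfl

lemma Γc_d_apply (X : Cx A) (i j : ℤ) (y : ((Γc I).obj X).X i) :
    ((((Γc I).obj X).d i j y : DRing.torsionSub I (X.X j))).1 =
      X.d i j (y : DRing.torsionSub I (X.X i)).1 := rfl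

lemma moduleInjective_of_termInj {X : Cx A} (hX : TermInj X) (n : ℤ) :
    Module.Injective A (X.X n) := by
  have : Injective (ModuleCat.of A (X.X n)) := hX n
  exact Module.injective_module_of_injective_object A (X.X n)

lemma mem_torsionSub_singleton {g : A} {M : Type u} [AddCommGroup M] [Module A M] (y : M) (c : ℕ)
    (hc : g ^ c • y = 0) : y ∈ DRing.torsionSub (Ideal.span {g}) M := by
  refine ⟨c, fun a ha => ?_⟩
  rw [Ideal.span_singleton_pow, Ideal.mem_span_singleton'] at ha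
  obtain ⟨b, rfl⟩ := ha
  rw [mul_smul, hc, smul_zero]

lemma quasiIso_ιc_singleton [IsNoetherianRing A] (g : A) (X : Cx A) (hX : TermInj X)
    (hT : CohTors (Ideal.span {g}) X) : QuasiIso (ιc (Ideal.span {g}) X) := by
  have hT' : ∀ (i j k : ℤ) (_ : i + 1 = j) (_ : j + 1 = k) (z : X.X j), X.d j k z = 0 →
      ∃ (m : ℕ) (w : X.X i), X.d i j w = g ^ m • z := by
    intro i j k hij hjk z hz
    obtain ⟨m, hm⟩ := cx_exists_of_isPowerTorsion _ X i j k hij hjk (hT j) z hz
    obtain ⟨w, hw⟩ := hm (g ^ m) (Ideal.pow_mem_pow (Ideal.mem_span_singleton_self g) m)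
    exact ⟨m, w, hw⟩
  have hP : ∀ (n : ℤ) (y : X.X n) (m : ℕ), ∃ (y' : X.X n) (c : ℕ),
      g ^ (c + m) • y' = g ^ c • y := by
    intro n y m
    have := moduleInjective_of_termInj hX n
    exact Groth.Agent.H88.exists_pow_smul_eq_of_injective (X.X n) g y m
  have hdd : ∀ (i j k : ℤ) (x : X.X i), X.d j k (X.d i j x) = 0 := by
    intro i j k x
    have := congrArg (fun f => f.hom x) (X.d_comp_d i j k)
    exact this
  refine ⟨fun k => ?_⟩
  refine quasiIsoAt_of_elem (ιc _ X) (k - 1) k (k + 1) (by omega) rfl ?_ ?_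
  · intro z hz hw
    obtain ⟨w, hw⟩ := hw
    rw [ιc_f_apply] at hw
    obtain ⟨c, hc⟩ := exists_pow_smul_eq_zero_of_mem (Ideal.span {g})
      (Ideal.mem_span_singleton_self g) (X.X k) z
    have hc' : g ^ c • (z : DRing.torsionSub (Ideal.span {g}) (X.X k)).1 = 0 :=
      congrArg Subtype.val hc
    have hcyc : X.d (k - 1) k (g ^ c • w) = 0 := by rw [map_smul, hw, hc']
    obtain ⟨m, v, hv⟩ := hT' (k - 1 - 1) (k - 1) k (by omega) (by omega) (g ^ c • w) hcyc
    obtain ⟨v', e, he⟩ := hP (k - 1 - 1) v (m + c)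
    have hw'' : g ^ (e + (m + c)) • (w - X.d (k - 1 - 1) (k - 1) v') = 0 := by
      rw [smul_sub, ← map_smul, he, map_smul, hv, ← mul_smul, ← mul_smul, ← pow_add, ← pow_add,
        ← add_assoc, sub_self]
    refine ⟨⟨w - X.d (k - 1 - 1) (k - 1) v', mem_torsionSub_singleton _ _ hw''⟩, ?_⟩
    apply Subtype.ext
    show X.d (k - 1) k (w - X.d (k - 1 - 1) (k - 1) v') = _
    rw [map_sub, hdd, sub_zero, hw]
  · intro y hy
    obtain ⟨m, w, hw⟩ := hT' (k - 1) k (k + 1) (by omega) rfl y hy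
    obtain ⟨w', c, hc⟩ := hP (k - 1) w m
    have hz : g ^ (c + m) • (y - X.d (k - 1) k w') = 0 := by
      rw [smul_sub, ← map_smul, hc, map_smul, hw, ← mul_smul, ← pow_add, sub_self]
    refine ⟨⟨y - X.d (k - 1) k w', mem_torsionSub_singleton _ _ hz⟩, ?_, w', ?_⟩
    · apply Subtype.ext
      show X.d k (k + 1) (y - X.d (k - 1) k w') = 0
      rw [map_sub, hdd, sub_zero, hy]
    · show y = (y - X.d (k - 1) k w') + X.d (k - 1) k w'
      abel



variable {A : Type u} [CommRing A] (I J : Ideal A)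

lemma isPowerTorsion_mono {I K : Ideal A} (h : I ≤ K) {M : Type u} [AddCommGroup M] [Module A M]
    (hM : LocCoh.IsPowerTorsion K M) : LocCoh.IsPowerTorsion I M := by
  intro x
  obtain ⟨n, hn⟩ := hM x
  exact ⟨n, fun a ha => hn a (Ideal.pow_right_mono h n ha)⟩

lemma cohTors_mono {I K : Ideal A} (h : I ≤ K) {X : Cx A} (hX : CohTors K X) : CohTors I X :=
  fun n => isPowerTorsion_mono h (hX n)

/-- `Γ_J (Γ_I M) ≃ Γ_{I ⊔ J} M` -/
def torsionSubSupEquiv (M : Type u) [AddCommGroup M] [Module A M] :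
    DRing.torsionSub J (DRing.torsionSub I M) ≃ₗ[A] DRing.torsionSub (I ⊔ J) M where
  toFun x := ⟨x.1.1, by
    obtain ⟨n, hn⟩ := x.1.2
    obtain ⟨m, hm⟩ := x.2
    refine ⟨n + m, fun c hc => ?_⟩
    have hc' : c ∈ I ^ n ⊔ J ^ m := Ideal.sup_pow_add_le_pow_sup_pow hc
    obtain ⟨a, ha, b, hb, rfl⟩ := Submodule.mem_sup.1 hc'
    rw [add_smul, hn a ha, zero_add]
    exact congrArg Subtype.val (hm b hb)⟩
  map_add' _ _ := rfl
  map_smul' _ _ := rfl
  invFun y := ⟨⟨y.1, by
    obtain ⟨n, hn⟩ := y.2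
    exact ⟨n, fun a ha => hn a (Ideal.pow_right_mono le_sup_left n ha)⟩⟩, by
    obtain ⟨n, hn⟩ := y.2
    exact ⟨n, fun b hb => Subtype.ext (hn b (Ideal.pow_right_mono le_sup_right n hb))⟩⟩
  left_inv _ := rfl
  right_inv _ := rfl

/-- `Γ_J (Γ_I X) ≅ Γ_{I ⊔ J} X` for complexes -/
noncomputable def θ (X : Cx A) : (Γc J).obj ((Γc I).obj X) ≅ (Γc (I ⊔ J)).obj X :=
  HomologicalComplex.Hom.isoOfComponents
    (fun n => (torsionSubSupEquiv I J (X.X n)).toModuleIso) (by
      intro i j _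
      ext x
      rfl)

lemma θ_hom_ιc (X : Cx A) :
    (θ I J X).hom ≫ ιc (I ⊔ J) X = ιc J ((Γc I).obj X) ≫ ιc I X := by
  ext n x
  rfl

lemma termInj_Γc [IsNoetherianRing A] {X : Cx A} (hX : TermInj X) : TermInj ((Γc I).obj X) := by
  intro n
  have := moduleInjective_of_termInj hX n
  have := Groth.Agent.H58.LC.injective_torsionSub I (X.X n)
  exact Module.injective_object_of_injective_module A (DRing.torsionSub I (X.X n))

lemma cohTors_of_quasiIso {X Y : Cx A} (φ : X ⟶ Y) [QuasiIso φ] (hY : CohTors I Y) :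
    CohTors I X := fun n =>
  isPowerTorsion_of_iso I (asIso (HomologicalComplex.homologyMap φ n)).symm (hY n)

lemma cohTors_of_quasiIso' {X Y : Cx A} (φ : X ⟶ Y) [QuasiIso φ] (hX : CohTors I X) :
    CohTors I Y := fun n =>
  isPowerTorsion_of_iso I (asIso (HomologicalComplex.homologyMap φ n)) (hX n)

/-- **Key theorem**: over a Noetherian ring, for a complex `X` of injective modules with `I`-power torsion
cohomology the inclusion `Γ_I X ⟶ X` is a quasi-isomorphism. -/
theorem quasiIso_ιc [IsNoetherianRing A] (X : Cx A) (hX : TermInj X) (hT : CohTors I X) :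
    QuasiIso (ιc I X) := by
  revert X
  refine Submodule.fg_induction (R := A) (M := A)
    (motive := fun (I : Ideal A) _ => ∀ X : Cx A, TermInj X → CohTors I X → QuasiIso (ιc I X))
    (fun g X hX hT => quasiIso_ιc_singleton g X hX hT) ?_ I (IsNoetherian.noetherian I)
  intro I J _ _ hI hJ X hX hT
  have q1 : QuasiIso (ιc I X) := hI X hX (cohTors_mono le_sup_left hT)
  have hT2 : CohTors J ((Γc I).obj X) :=
    cohTors_of_quasiIso J (ιc I X) (cohTors_mono le_sup_right hT)
  have q2 : QuasiIso (ιc J ((Γc I).obj X)) := hJ _ (termInj_Γc I hX) hT2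
  have e : ιc (I ⊔ J) X = (θ I J X).inv ≫ ιc J ((Γc I).obj X) ≫ ιc I X := by
    rw [← θ_hom_ιc, Iso.inv_hom_id_assoc]
  rw [e]
  infer_instance

end Groth.Agent.H9.RG
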