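import Mathlib
import Groth.Agent.H9.RG.Noeth

/-!
# Consequences in `D(A)` for Noetherian `A`
-/

set_option autoImplicit false
universe u
open CategoryTheory CategoryTheory.Limits

attribute [local instance] HasDerivedCategory.standard

namespace Groth.Agent.H9.RG

variable {A : Type u} [CommRing A] (I : Ideal A)

/-- every object of `D(A)` is represented by a K-injective complex of injective modules -/
lemma exists_rep (K : Dual.D A) :
    ∃ X : Cx A, X.IsKInjective ∧ TermInj X ∧ Nonempty (K ≅ DerivedCategory.Q.obj X) := by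
  obtain ⟨X, f, hX, hf, -, hinj⟩ :=
    Groth.Agent.H33.KInj.exists_kInjective_resolution (DerivedCategory.Q.objPreimage K)
  have : IsIso (DerivedCategory.Q.map f) := by
    rw [DerivedCategory.isIso_Q_map_iff_quasiIso]; exact hf
  exact ⟨X, hX, hinj,
    ⟨(DerivedCategory.Q.objObjPreimageIso K).symm ≪≫ asIso (DerivedCategory.Q.map f)⟩⟩

/-- power torsion cohomology is invariant under isomorphism in `D(A)` -/
lemma hd_isPowerTorsion_of_iso {K L : Dual.D A} (e : K ≅ L)
    (hK : ∀ i : ℤ, LocCoh.IsPowerTorsion I (Dual.HD A K i)) (i : ℤ) :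
    LocCoh.IsPowerTorsion I (Dual.HD A L i) :=
  isPowerTorsion_of_iso I ((DerivedCategory.homologyFunctor (ModuleCat.{u} A) i).mapIso e) (hK i)

lemma cohTors_iff (X : Cx A) :
    CohTors I X ↔ ∀ i : ℤ, LocCoh.IsPowerTorsion I (Dual.HD A (DerivedCategory.Q.obj X) i) := by
  constructor
  · intro h i
    exact isPowerTorsion_of_iso I
      ((DerivedCategory.homologyFunctorFactors (ModuleCat.{u} A) i).app X).symm (h i)
  · intro h i
    exact isPowerTorsion_of_iso I
      ((DerivedCategory.homologyFunctorFactors (ModuleCat.{u} A) i).app X) (h i)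

variable [DRing.HasRgammaI I]

lemma isIso_ε_Q [IsNoetherianRing A] (X : Cx A) (hK : X.IsKInjective) (hX : TermInj X)
    (hT : CohTors I X) : IsIso ((DRing.RgammaIε I).app (DerivedCategory.Q.obj X)) := by
  have := isIso_u I X hK
  have hq : QuasiIso (ιc I X) := quasiIso_ιc I X hX hT
  have : IsIso (DerivedCategory.Q.map (ιc I X)) := by
    rw [DerivedCategory.isIso_Q_map_iff_quasiIso]; exact hq
  have e : (DRing.RgammaIε I).app (DerivedCategory.Q.obj X) =
      inv (u I X) ≫ DerivedCategory.Q.map (ιc I X) := by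
    rw [← u_comp_ε, IsIso.inv_hom_id_assoc]
  rw [e]
  infer_instance

/-- **S1813**: for `K` with `I`-power torsion cohomology over a Noetherian ring, `RΓ_I K ⟶ K` is an
isomorphism. -/
theorem isIso_ε [IsNoetherianRing A] (K : Dual.D A)
    (hK : ∀ i : ℤ, LocCoh.IsPowerTorsion I (Dual.HD A K i)) :
    IsIso ((DRing.RgammaIε I).app K) := by
  obtain ⟨X, hX, hinj, ⟨e⟩⟩ := exists_rep K
  have hT : CohTors I X := (cohTors_iff I X).2 (hd_isPowerTorsion_of_iso I e hK)
  have := isIso_ε_Q I X hX hinj hT
  have nat := (DRing.RgammaIε I).naturality e.hom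
  have : (DRing.RgammaIε I).app K =
      (DRing.RgammaI I).map e.hom ≫ (DRing.RgammaIε I).app (DerivedCategory.Q.obj X) ≫ e.inv := by
    rw [← Category.assoc, nat]
    simp
  rw [this]
  infer_instance

end Groth.Agent.H9.RG
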