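import Mathlib

/-!
# Elements of a filtered colimit of modules (universe-flexible version)
-/

set_option autoImplicit false
universe w' w v u
open CategoryTheory CategoryTheory.Limits

namespace Groth.Agent.H9.RG

variable {A : Type u} [Ring A] {J : Type v} [Category.{w} J] [IsFiltered J]

lemma colimit_exists_rep' (F : J ⥤ ModuleCat.{w'} A) [HasColimit F]
    (x : (colimit F : ModuleCat.{w'} A)) :
    ∃ (j : J) (y : F.obj j), (colimit.ι F j).hom y = x := by
  let R : Submodule A (colimit F : ModuleCat.{w'} A) := ⨆ j, LinearMap.range (colimit.ι F j).hom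
  have h0 : ModuleCat.ofHom R.mkQ = 0 := by
    apply colimit.hom_ext
    intro j
    ext y
    have : (colimit.ι F j).hom y ∈ R := Submodule.mem_iSup_of_mem j ⟨y, rfl⟩
    exact (Submodule.Quotient.mk_eq_zero R).2 this
  have hx : x ∈ R := by
    have := congrArg (fun f => f.hom x) h0
    exact (Submodule.Quotient.mk_eq_zero R).1 this
  refine Submodule.iSup_induction (fun j => LinearMap.range (colimit.ι F j).hom)
    (motive := fun x => ∃ (j : J) (y : F.obj j), (colimit.ι F j).hom y = x) hx ?_ ?_ ?_
  · rintro j x ⟨y, rfl⟩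
    exact ⟨j, y, rfl⟩
  · obtain ⟨j⟩ := IsFiltered.nonempty (C := J)
    exact ⟨j, 0, map_zero _⟩
  · rintro x x' ⟨j, y, rfl⟩ ⟨j', y', rfl⟩
    refine ⟨IsFiltered.max j j', (F.map (IsFiltered.leftToMax j j')).hom y +
      (F.map (IsFiltered.rightToMax j j')).hom y', ?_⟩
    rw [map_add]
    have h1 := congrArg (fun f => f.hom y) (colimit.w F (IsFiltered.leftToMax j j'))
    have h2 := congrArg (fun f => f.hom y') (colimit.w F (IsFiltered.rightToMax j j'))
    exact congrArg₂ (· + ·) h1 h2

end Groth.Agent.H9.RG
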