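import Mathlib
import Groth.Agent.H9.RG.Basic
import Groth.Agent.H30.KInjCls

/-!
# Maps `A/I^n ⟶ E[q]` in `D(A)` for a K-injective complex `E`, in terms of cocycles killed by `I^n`
-/

set_option autoImplicit false
universe u
open CategoryTheory CategoryTheory.Limits

attribute [local instance] HasDerivedCategory.standard

namespace Groth.Agent.H9.RG

open Groth.Agent.H30.KInjCls

variable {A : Type u} [CommRing A] (I : Ideal A) (E : Cx A) (q : ℤ)

/-- the map `A/J → M`, `1 ↦ z` for `z` killed by `J` -/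
noncomputable def φz (J : Ideal A) {M : ModuleCat.{u} A} (z : M) (hz : ∀ a ∈ J, a • z = 0) :
    ModuleCat.of A (A ⧸ J) ⟶ M :=
  ModuleCat.ofHom (Submodule.liftQ J (LinearMap.toSpanSingleton A M z) (fun a ha => by
    rw [LinearMap.mem_ker, LinearMap.toSpanSingleton_apply]; exact hz a ha))

lemma φz_apply_mk (J : Ideal A) {M : ModuleCat.{u} A} (z : M) (hz : ∀ a ∈ J, a • z = 0) (a : A) :
    (φz J z hz).hom (Submodule.Quotient.mk a) = a • z := rfl

lemma quot_hom_ext (J : Ideal A) {M : ModuleCat.{u} A} (f g : ModuleCat.of A (A ⧸ J) ⟶ M)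
    (h : f.hom (Submodule.Quotient.mk 1) = g.hom (Submodule.Quotient.mk 1)) : f = g := by
  apply ModuleCat.hom_ext
  apply Submodule.linearMap_qext
  apply LinearMap.ext_ring
  exact h

lemma φz_eq (J : Ideal A) {M : ModuleCat.{u} A} (f : ModuleCat.of A (A ⧸ J) ⟶ M) :
    f = φz J (f.hom (Submodule.Quotient.mk 1)) (fun a ha => by
      rw [← map_smul, ← Submodule.Quotient.mk_smul, smul_eq_mul, mul_one,
        (Submodule.Quotient.mk_eq_zero J).2 ha, map_zero]) := by
  apply quot_hom_ext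
  rw [φz_apply_mk, one_smul]

lemma φz_comp (J : Ideal A) {M N : ModuleCat.{u} A} (z : M) (hz : ∀ a ∈ J, a • z = 0) (f : M ⟶ N) :
    φz J z hz ≫ f = φz J (f.hom z) (fun a ha => by rw [← map_smul, hz a ha, map_zero]) := by
  apply quot_hom_ext
  show f.hom ((φz J z hz).hom (Submodule.Quotient.mk 1)) = _
  rw [φz_apply_mk, φz_apply_mk, map_smul]

lemma φz_add (J : Ideal A) {M : ModuleCat.{u} A} (z z' : M) (hz : ∀ a ∈ J, a • z = 0)
    (hz' : ∀ a ∈ J, a • z' = 0) :
    φz J (z + z') (fun a ha => by rw [smul_add, hz a ha, hz' a ha, add_zero]) =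
      φz J z hz + φz J z' hz' := by
  apply quot_hom_ext
  show (1 : A) • (z + z') = (1 : A) • z + (1 : A) • z'
  rw [smul_add]

lemma φz_zero_iff (J : Ideal A) {M : ModuleCat.{u} A} (z : M) (hz : ∀ a ∈ J, a • z = 0) :
    φz J z hz = 0 ↔ z = 0 := by
  constructor
  · intro h
    have := congrArg (fun f => f.hom (Submodule.Quotient.mk 1)) h
    have h2 : (1 : A) • z = 0 := this
    rwa [one_smul] at h2
  · intro h
    subst h
    apply quot_hom_ext
    show (1 : A) • (0 : M) = 0
    rw [smul_zero]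

/-- the transition map `A/J' → A/J` for `J' ≤ J` -/
noncomputable def quotMap {J J' : Ideal A} (h : J' ≤ J) :
    ModuleCat.of A (A ⧸ J') ⟶ ModuleCat.of A (A ⧸ J) :=
  ModuleCat.ofHom (Submodule.mapQ J' J LinearMap.id h)

lemma quotMap_φz {J J' : Ideal A} (h : J' ≤ J) {M : ModuleCat.{u} A} (z : M)
    (hz : ∀ a ∈ J, a • z = 0) :
    quotMap h ≫ φz J z hz = φz J' z (fun a ha => hz a (h ha)) := by
  apply quot_hom_ext
  rfl

lemma smul_φz (J : Ideal A) {M : ModuleCat.{u} A} (z : M) (hz : ∀ a ∈ J, a • z = 0) (b : A) :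
    (b • 𝟙 (ModuleCat.of A (A ⧸ J))) ≫ φz J z hz =
      φz J (b • z) (fun a ha => by rw [smul_comm, hz a ha, smul_zero]) := by
  apply quot_hom_ext
  show (φz J z hz).hom (b • Submodule.Quotient.mk 1) = (1 : A) • b • z
  rw [map_smul, φz_apply_mk, one_smul, one_smul]

end Groth.Agent.H9.RG
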