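import Mathlib
import Groth.Prelude.Def_DualLC
import Groth.Agent.H9.RG.HomCls
import Groth.Agent.H9.RG.Elem

/-!
# `colim_n Hom_{D(A)}(A/I^n, E[q]) ≃ H^q(Γ_I E)` for a K-injective complex `E`
-/

set_option autoImplicit false
universe u
open CategoryTheory CategoryTheory.Limits

attribute [local instance] HasDerivedCategory.standard

namespace Groth.Agent.H9.RG

open Groth.Agent.H30.KInjCls

variable {A : Type u} [CommRing A] (I : Ideal A) (E : Cx A) (q : ℤ)

/-- cocycles of degree `q` killed by `I^n` -/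
def Zn (n : ℕ) : Submodule A (E.X q) where
  carrier := {z | E.d q (q + 1) z = 0 ∧ ∀ a ∈ I ^ n, a • z = 0}
  zero_mem' := ⟨map_zero _, fun a _ => smul_zero a⟩
  add_mem' := by
    rintro z z' ⟨h1, h2⟩ ⟨h1', h2'⟩
    exact ⟨by rw [map_add, h1, h1', add_zero],
      fun a ha => by rw [smul_add, h2 a ha, h2' a ha, add_zero]⟩
  smul_mem' := by
    rintro b z ⟨h1, h2⟩
    exact ⟨by rw [map_smul, h1, smul_zero], fun a ha => by rw [smul_comm, h2 a ha, smul_zero]⟩

/-- `A/I^n` in degree `0` -/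
noncomputable abbrev Sn (n : ℕ) : DerivedCategory (ModuleCat.{u} A) :=
  DerivedCategory.Q.obj
    ((CochainComplex.singleFunctor (ModuleCat.{u} A) 0).obj (ModuleCat.of A (A ⧸ I ^ n)))

lemma φz_comp_d (n : ℕ) (z : Zn I E q n) :
    φz (I ^ n) (z.1 : E.X q) z.2.2 ≫ E.d q (q + 1) = 0 := by
  rw [φz_comp]
  exact (φz_zero_iff _ _ _).2 z.2.1

/-- the class of a cocycle killed by `I^n` -/
noncomputable def pnFun (n : ℕ) (z : Zn I E q n) : Sn I n ⟶ (DerivedCategory.Q.obj E)⟦q⟧ :=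
  cls (q + 1) rfl (φz (I ^ n) (z.1 : E.X q) z.2.2) (φz_comp_d I E q n z)

lemma pnFun_add (n : ℕ) (z z' : Zn I E q n) :
    pnFun I E q n (z + z') = pnFun I E q n z + pnFun I E q n z' := by
  unfold pnFun
  exact (cls_congr _ _ (φz_add _ _ _ _ _) _ _).trans (cls_add (L := E) (q + 1) rfl _ _ _ _)

lemma single_map_smul (b : A) (X : ModuleCat.{u} A) :
    DerivedCategory.Q.map ((CochainComplex.singleFunctor (ModuleCat.{u} A) 0).map (b • 𝟙 X)) =
      b • 𝟙 _ := by
  have := Functor.map_smul (DerivedCategory.singleFunctor (ModuleCat.{u} A) 0) b (𝟙 X)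
  rw [CategoryTheory.Functor.map_id] at this
  exact this

lemma pnFun_smul (n : ℕ) (b : A) (z : Zn I E q n) :
    pnFun I E q n (b • z) = b • pnFun I E q n z := by
  unfold pnFun
  have h1 := cls_precomp (L := E) (q + 1) rfl (b • 𝟙 (ModuleCat.of A (A ⧸ I ^ n)))
    (φz (I ^ n) (z.1 : E.X q) z.2.2) (φz_comp_d I E q n z)
  have h2 := h1.trans (by rw [single_map_smul, Linear.smul_comp, Category.id_comp])
  exact (cls_congr _ _ (smul_φz _ _ _ _).symm _ _).trans h2

/-- the linear map from cocycles killed by `I^n` to `Hom(A/I^n, E[q])` -/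
noncomputable def pn (n : ℕ) : Zn I E q n →ₗ[A] (Sn I n ⟶ (DerivedCategory.Q.obj E)⟦q⟧) where
  toFun := pnFun I E q n
  map_add' := pnFun_add I E q n
  map_smul' := pnFun_smul I E q n

variable [E.IsKInjective]

lemma pn_surjective (n : ℕ) : Function.Surjective (pn I E q n) := by
  intro α
  obtain ⟨φ, hφ, rfl⟩ := cls_surjective (L := E) (q + 1) rfl α
  have h0 := φz_eq (I ^ n) φ
  refine ⟨⟨φ.hom (Submodule.Quotient.mk 1), ?_, ?_⟩, ?_⟩
  · have := congrArg (fun f => f.hom (Submodule.Quotient.mk 1)) hφ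
    exact this
  · intro a ha
    rw [← map_smul, ← Submodule.Quotient.mk_smul, smul_eq_mul, mul_one,
      (Submodule.Quotient.mk_eq_zero (I ^ n)).2 ha, map_zero]
  · exact cls_congr _ _ h0.symm _ _

lemma pn_eq_zero_iff (n : ℕ) (z : Zn I E q n) :
    pn I E q n z = 0 ↔
      ∃ w : E.X (q - 1), (∀ a ∈ I ^ n, a • w = 0) ∧ E.d (q - 1) q w = (z.1 : E.X q) := by
  show pnFun I E q n z = 0 ↔ _
  unfold pnFun
  rw [cls_eq_zero_iff (q + 1) rfl _ _ (q - 1) (by omega)]
  constructor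
  · rintro ⟨g, hg⟩
    refine ⟨g.hom (Submodule.Quotient.mk 1), ?_, ?_⟩
    · intro a ha
      rw [← map_smul, ← Submodule.Quotient.mk_smul, smul_eq_mul, mul_one,
        (Submodule.Quotient.mk_eq_zero (I ^ n)).2 ha, map_zero]
    · have := congrArg (fun f => f.hom (Submodule.Quotient.mk 1)) hg
      refine Eq.trans this ?_
      rw [φz_apply_mk, one_smul]
  · rintro ⟨w, hw, hdw⟩
    refine ⟨φz (I ^ n) w hw, ?_⟩
    rw [φz_comp]
    apply quot_hom_ext
    rw [φz_apply_mk, φz_apply_mk, hdw]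

omit [E.IsKInjective] in
/-- transition maps -/
lemma pn_trans {n m : ℕ} (h : n ≤ m) (z : Zn I E q n) (hz : (z.1 : E.X q) ∈ Zn I E q m) :
    DerivedCategory.Q.map ((CochainComplex.singleFunctor (ModuleCat.{u} A) 0).map
        (quotMap (Ideal.pow_le_pow_right h : I ^ m ≤ I ^ n))) ≫ pn I E q n z =
      pn I E q m ⟨z.1, hz⟩ := by
  show _ ≫ pnFun I E q n z = pnFun I E q m _
  unfold pnFun
  have h1 := cls_precomp (L := E) (q + 1) rfl (quotMap (Ideal.pow_le_pow_right h : I ^ m ≤ I ^ n))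
    (φz (I ^ n) (z.1 : E.X q) z.2.2) (φz_comp_d I E q n z)
  refine Eq.trans h1.symm ?_
  exact cls_congr _ _ (quotMap_φz _ _ _) _ _

end Groth.Agent.H9.RG
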