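import Mathlib
import Groth.Agent.H9.RG.HDI
import Groth.Agent.H9.RG.ColimRep

/-!
# `colim_n Hom_{D(A)}(A/I^n, E[q]) ≃ H^q(Γ_I E)`: the comparison maps
-/

set_option autoImplicit false
universe u
open CategoryTheory CategoryTheory.Limits

attribute [local instance] HasDerivedCategory.standard

namespace Groth.Agent.H9.RG

open Groth.Agent.H30.KInjCls

variable {A : Type u} [CommRing A] (I : Ideal A) (E : Cx A) (q : ℤ)

/-- the short complex computing `H^q(Γ_I E)` -/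
noncomputable abbrev SΓ : ShortComplex (ModuleCat.{u} A) := ((Γc I).obj E).sc' (q - 1) q (q + 1)

/-- the explicit model of `H^q(Γ_I E)` -/
noncomputable abbrev HΓ : Type u := (SΓ I E q).moduleCatLeftHomologyData.H

/-- the cycle of `Γ_I E` attached to an element of `Zn` -/
noncomputable def toCyc (n : ℕ) : Zn I E q n →ₗ[A] LinearMap.ker (SΓ I E q).g.hom where
  toFun z := ⟨(⟨(z.1 : E.X q), ⟨n, z.2.2⟩⟩ : DRing.torsionSub I (E.X q)),
    Subtype.ext z.2.1⟩
  map_add' _ _ := rfl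
  map_smul' _ _ := rfl

/-- the class in `H^q(Γ_I E)` of an element of `Zn` -/
noncomputable def toH (n : ℕ) : Zn I E q n →ₗ[A] HΓ I E q :=
  (LinearMap.range (SΓ I E q).moduleCatToCycles).mkQ ∘ₗ toCyc I E q n

lemma toH_eq_zero_iff (n : ℕ) (z : Zn I E q n) :
    toH I E q n z = 0 ↔
      ∃ (m : ℕ) (w : E.X (q - 1)), (∀ a ∈ I ^ m, a • w = 0) ∧ E.d (q - 1) q w = (z.1 : E.X q) := by
  show (LinearMap.range (SΓ I E q).moduleCatToCycles).mkQ (toCyc I E q n z) = 0 ↔ _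
  rw [Submodule.mkQ_apply, Submodule.Quotient.mk_eq_zero]
  constructor
  · rintro ⟨w, hw⟩
    obtain ⟨m, hm⟩ := (w : DRing.torsionSub I (E.X (q - 1))).2
    refine ⟨m, (w : DRing.torsionSub I (E.X (q - 1))).1, hm, ?_⟩
    have := congrArg (fun c => ((c : LinearMap.ker (SΓ I E q).g.hom).1 :
      DRing.torsionSub I (E.X q)).1) hw
    exact this
  · rintro ⟨m, w, hw, hdw⟩
    exact ⟨(⟨w, ⟨m, hw⟩⟩ : DRing.torsionSub I (E.X (q - 1))), Subtype.ext (Subtype.ext hdw)⟩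

lemma toH_surjective (h : HΓ I E q) : ∃ (n : ℕ) (z : Zn I E q n), toH I E q n z = h := by
  obtain ⟨c, rfl⟩ := Submodule.mkQ_surjective (LinearMap.range (SΓ I E q).moduleCatToCycles) h
  obtain ⟨n, hn⟩ := ((c : LinearMap.ker (SΓ I E q).g.hom).1 : DRing.torsionSub I (E.X q)).2
  have hc : E.d q (q + 1) ((c : LinearMap.ker (SΓ I E q).g.hom).1 :
      DRing.torsionSub I (E.X q)).1 = 0 :=
    congrArg Subtype.val c.2
  exact ⟨n, ⟨_, hc, hn⟩, rfl⟩

lemma toH_congr {n m : ℕ} (z : Zn I E q n) (z' : Zn I E q m) (h : (z.1 : E.X q) = z'.1) :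
    toH I E q n z = toH I E q m z' := by
  show (LinearMap.range (SΓ I E q).moduleCatToCycles).mkQ (toCyc I E q n z) =
    (LinearMap.range (SΓ I E q).moduleCatToCycles).mkQ (toCyc I E q m z')
  congr 1
  exact Subtype.ext (Subtype.ext h)

variable [E.IsKInjective]

lemma ker_pn_le (n : ℕ) : LinearMap.ker (pn I E q n) ≤ LinearMap.ker (toH I E q n) := by
  intro z hz
  rw [LinearMap.mem_ker] at hz ⊢
  obtain ⟨w, hw, hdw⟩ := (pn_eq_zero_iff I E q n z).1 hz
  exact (toH_eq_zero_iff I E q n z).2 ⟨n, w, hw, hdw⟩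

/-- the comparison map `Hom(A/I^n, E[q]) → H^q(Γ_I E)` -/
noncomputable def cn (n : ℕ) : (Sn I n ⟶ (DerivedCategory.Q.obj E)⟦q⟧) →ₗ[A] HΓ I E q :=
  (LinearMap.ker (pn I E q n)).liftQ (toH I E q n) (ker_pn_le I E q n) ∘ₗ
    ((pn I E q n).quotKerEquivOfSurjective (pn_surjective I E q n)).symm.toLinearMap

lemma cn_pn (n : ℕ) (z : Zn I E q n) : cn I E q n (pn I E q n z) = toH I E q n z := by
  unfold cn
  have : ((pn I E q n).quotKerEquivOfSurjective (pn_surjective I E q n)).symm (pn I E q n z) =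
      Submodule.Quotient.mk z := by
    rw [LinearEquiv.symm_apply_eq]
    rfl
  rw [LinearMap.comp_apply, LinearEquiv.coe_coe, this]
  rfl

lemma cn_trans {n m : ℕ} (h : n ≤ m) (α : Sn I n ⟶ (DerivedCategory.Q.obj E)⟦q⟧) :
    cn I E q m (DerivedCategory.Q.map ((CochainComplex.singleFunctor (ModuleCat.{u} A) 0).map
        (quotMap (Ideal.pow_le_pow_right h : I ^ m ≤ I ^ n))) ≫ α) = cn I E q n α := by
  obtain ⟨z, rfl⟩ := pn_surjective I E q n α
  have hz : (z.1 : E.X q) ∈ Zn I E q m :=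
    ⟨z.2.1, fun a ha => z.2.2 a (Ideal.pow_le_pow_right h ha)⟩
  rw [pn_trans I E q h z hz, cn_pn, cn_pn]
  exact toH_congr I E q _ _ rfl

lemma cn_eq_zero {n : ℕ} (α : Sn I n ⟶ (DerivedCategory.Q.obj E)⟦q⟧) (hα : cn I E q n α = 0) :
    ∃ (m : ℕ) (h : n ≤ m),
      DerivedCategory.Q.map ((CochainComplex.singleFunctor (ModuleCat.{u} A) 0).map
        (quotMap (Ideal.pow_le_pow_right h : I ^ m ≤ I ^ n))) ≫ α = 0 := by
  obtain ⟨z, rfl⟩ := pn_surjective I E q n α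
  rw [cn_pn] at hα
  obtain ⟨m, w, hw, hdw⟩ := (toH_eq_zero_iff I E q n z).1 hα
  refine ⟨max n m, le_max_left _ _, ?_⟩
  have hz : (z.1 : E.X q) ∈ Zn I E q (max n m) :=
    ⟨z.2.1, fun a ha => z.2.2 a (Ideal.pow_le_pow_right (le_max_left _ _) ha)⟩
  rw [pn_trans I E q (le_max_left n m) z hz, pn_eq_zero_iff]
  exact ⟨w, fun a ha => hw a (Ideal.pow_le_pow_right (le_max_right _ _) ha), hdw⟩

lemma cn_surjective (h : HΓ I E q) :
    ∃ (n : ℕ) (α : Sn I n ⟶ (DerivedCategory.Q.obj E)⟦q⟧), cn I E q n α = h := by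
  obtain ⟨n, z, rfl⟩ := toH_surjective I E q h
  exact ⟨n, pn I E q n z, cn_pn I E q n z⟩

end Groth.Agent.H9.RG
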