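import Mathlib
import Groth.Agent.H9.RG.HDI2

/-!
# `colim_n Hom_{D(A)}(A/I^n, K[q]) ≃ H^q(RΓ_I K)`
-/

set_option autoImplicit false
universe u
open CategoryTheory CategoryTheory.Limits Opposite

attribute [local instance] HasDerivedCategory.standard

namespace Groth.Agent.H9.RG

variable {A : Type u} [CommRing A] (I : Ideal A) (E : Cx A) (q : ℤ)

/-- the diagram whose colimit is `HDI` -/
noncomputable abbrev FD (K : Dual.D A) : ℕᵒᵖᵒᵖ ⥤ ModuleCat.{u + 1} A :=
  (localCohomology.ringModIdeals (localCohomology.idealPowersDiagram I) ⋙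
      DerivedCategory.singleFunctor (ModuleCat.{u} A) 0).op ⋙
    (linearYoneda A (Dual.D A)).obj (K⟦q⟧)

variable [E.IsKInjective]

/-- the cocone with point `H^q(Γ_I E)` -/
noncomputable def hdiCocone : Cocone (FD I q (DerivedCategory.Q.obj E)) where
  pt := ModuleCat.of A (ULift.{u + 1} (HΓ I E q))
  ι :=
    { app := fun j => ModuleCat.ofHom
        ((ULift.moduleEquiv (R := A) (M := HΓ I E q)).symm.toLinearMap ∘ₗ cn I E q j.unop.unop)
      naturality := by
        intro j j' f
        ext α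
        apply ULift.ext
        exact cn_trans I E q (leOfHom f.unop.unop) α }

lemma hdiCocone_ι_apply (n : ℕ) (α : Sn I n ⟶ (DerivedCategory.Q.obj E)⟦q⟧) :
    ((hdiCocone I E q).ι.app (op (op n))).hom α = ULift.up (cn I E q n α) := rfl

/-- the comparison map -/
noncomputable def hdiDesc :
    Dual2.HDI A I (DerivedCategory.Q.obj E) q ⟶ ModuleCat.of A (ULift.{u + 1} (HΓ I E q)) :=
  colimit.desc (FD I q (DerivedCategory.Q.obj E)) (hdiCocone I E q)

lemma hdiDesc_ι_apply (n : ℕ) (α : Sn I n ⟶ (DerivedCategory.Q.obj E)⟦q⟧) :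
    (hdiDesc I E q).hom ((colimit.ι (FD I q (DerivedCategory.Q.obj E)) (op (op n))).hom α) =
      ULift.up (cn I E q n α) := by
  have := congrArg (fun f => f.hom α)
    (colimit.ι_desc (hdiCocone I E q) (op (op n)))
  exact this

lemma hdiDesc_bijective : Function.Bijective (hdiDesc I E q).hom := by
  constructor
  · rw [injective_iff_map_eq_zero]
    intro x hx
    obtain ⟨j, α, rfl⟩ := colimit_exists_rep' (FD I q (DerivedCategory.Q.obj E)) x
    have h1 := hdiDesc_ι_apply I E q j.unop.unop α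
    have h2 : cn I E q j.unop.unop α = 0 := by
      have := h1.symm.trans hx
      exact congrArg ULift.down this
    obtain ⟨m, hm, h3⟩ := cn_eq_zero I E q α h2
    let f : j ⟶ op (op m) := (homOfLE hm).op.op
    have hw := congrArg (fun g => g.hom α) (colimit.w (FD I q (DerivedCategory.Q.obj E)) f)
    refine hw.symm.trans ?_
    have h4 : ((FD I q (DerivedCategory.Q.obj E)).map f).hom α = 0 := h3
    show (colimit.ι (FD I q (DerivedCategory.Q.obj E)) (op (op m))).hom
      (((FD I q (DerivedCategory.Q.obj E)).map f).hom α) = 0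
    rw [h4, map_zero]
  · intro y
    obtain ⟨n, α, hα⟩ := cn_surjective I E q y.down
    refine ⟨(colimit.ι (FD I q (DerivedCategory.Q.obj E)) (op (op n))).hom α, ?_⟩
    rw [hdiDesc_ι_apply, hα]

/-- `HDI(Q E) ≃ H^q(Γ_I E)` for K-injective `E` -/
theorem nonempty_hdi_equiv_homology :
    Nonempty (Dual2.HDI A I (DerivedCategory.Q.obj E) q ≃ₗ[A] ((Γc I).obj E).homology q) := by
  have e1 : Dual2.HDI A I (DerivedCategory.Q.obj E) q ≃ₗ[A] ULift.{u + 1} (HΓ I E q) :=
    LinearEquiv.ofBijective (hdiDesc I E q).hom (hdiDesc_bijective I E q)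
  have e2 : ULift.{u + 1} (HΓ I E q) ≃ₗ[A] HΓ I E q := ULift.moduleEquiv
  have e3 : HΓ I E q ≃ₗ[A] (SΓ I E q).homology := (SΓ I E q).moduleCatHomologyIso.symm.toLinearEquiv
  have hi : (ComplexShape.up ℤ).prev q = q - 1 := ComplexShape.prev_eq' _ (by simp)
  have hk : (ComplexShape.up ℤ).next q = q + 1 := ComplexShape.next_eq' _ rfl
  have e4 : (SΓ I E q).homology ≃ₗ[A] ((Γc I).obj E).homology q :=
    (ShortComplex.homologyMapIso (((Γc I).obj E).isoSc' (q - 1) q (q + 1) hi hk)).symm.toLinearEquiv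
  exact ⟨e1.trans (e2.trans (e3.trans e4))⟩

variable [DRing.HasRgammaI I]

/-- **S1812** -/
theorem nonempty_hd_equiv_hdi (K : Dual.D A) :
    Nonempty (Dual.HD A ((DRing.RgammaI I).obj K) q ≃ₗ[A] Dual2.HDI A I K q) := by
  obtain ⟨E, f, hE, hf⟩ := hKinj (DerivedCategory.Q.objPreimage K)
  have : IsIso (DerivedCategory.Q.map f) := by
    rw [DerivedCategory.isIso_Q_map_iff_quasiIso]; exact hf
  let e : K ≅ DerivedCategory.Q.obj E :=
    (DerivedCategory.Q.objObjPreimageIso K).symm ≪≫ asIso (DerivedCategory.Q.map f)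
  have := isIso_u I E hE
  obtain ⟨e0⟩ := nonempty_hdi_equiv_homology I E q
  have e1 : Dual.HD A ((DRing.RgammaI I).obj K) q ≃ₗ[A] ((Γc I).obj E).homology q :=
    ((DerivedCategory.homologyFunctor (ModuleCat.{u} A) q).mapIso
      ((DRing.RgammaI I).mapIso e ≪≫ (asIso (u I E)).symm) ≪≫
      (DerivedCategory.homologyFunctorFactors (ModuleCat.{u} A) q).app _).toLinearEquiv
  have e2 : Dual2.HDI A I K q ≃ₗ[A] Dual2.HDI A I (DerivedCategory.Q.obj E) q :=
    (HasColimit.isoOfNatIso (Functor.isoWhiskerLeft _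
      ((linearYoneda A (Dual.D A)).mapIso ((shiftFunctor (Dual.D A) q).mapIso e)))).toLinearEquiv
  exact ⟨e1.trans (e0.symm.trans e2.symm)⟩

end Groth.Agent.H9.RG
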