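import Mathlib
import Groth.Agent.H9.RG.NoethD

/-!
# `u X` is an isomorphism for termwise injective complexes (Noetherian case); consequences
-/

set_option autoImplicit false
universe u
open CategoryTheory CategoryTheory.Limits

attribute [local instance] HasDerivedCategory.standard

namespace Groth.Agent.H9.RG

variable {A : Type u} [CommRing A] (I J : Ideal A)

lemma quasiIso_iff_exactAt_mappingCone {K L : Cx A} (φ : K ⟶ L) :
    QuasiIso φ ↔ ∀ n, (CochainComplex.mappingCone φ).ExactAt n := by
  rw [← HomologicalComplex.mem_quasiIso_iff, ← HomotopyCategory.quotient_map_mem_quasiIso_iff,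
    HomotopyCategory.quasiIso_eq_trW_subcategoryAcyclic,
    ← HomotopyCategory.quotient_obj_mem_subcategoryAcyclic_iff_exactAt]
  exact (HomotopyCategory.subcategoryAcyclic (ModuleCat.{u} A)).trW_iff_of_distinguished _
    (HomotopyCategory.mappingCone_triangleh_distinguished φ)

lemma termInj_mappingCone {X Y : Cx A} (φ : X ⟶ Y) (hX : TermInj X) (hY : TermInj Y) :
    TermInj (CochainComplex.mappingCone φ) := by
  intro n
  have := hX (n + 1)
  have := hY n
  exact Injective.of_iso
    (HomologicalComplex.homotopyCofiber.XIsoBiprod φ n (n + 1) rfl).symm inferInstance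

lemma cohTors_of_exactAt {X : Cx A} (h : ∀ n, X.ExactAt n) : CohTors I X := by
  intro n x
  have hz : IsZero (X.homology n) := (HomologicalComplex.exactAt_iff_isZero_homology _ _).1 (h n)
  have : Subsingleton (X.homology n) := ModuleCat.subsingleton_of_isZero hz
  exact ⟨0, fun a _ => Subsingleton.elim _ _⟩

/-- over a Noetherian ring, `Γ_I` preserves quasi-isomorphisms between complexes of injectives -/
lemma quasiIso_Γc_map [IsNoetherianRing A] {X Y : Cx A} (φ : X ⟶ Y) [hφ : QuasiIso φ]
    (hX : TermInj X) (hY : TermInj Y) : QuasiIso ((Γc I).map φ) := by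
  rw [quasiIso_iff_exactAt_mappingCone] at hφ ⊢
  have hC : TermInj (CochainComplex.mappingCone φ) := termInj_mappingCone φ hX hY
  have hq : QuasiIso (ιc I (CochainComplex.mappingCone φ)) :=
    quasiIso_ιc I _ hC (cohTors_of_exactAt I hφ)
  intro n
  rw [HomologicalComplex.exactAt_iff_isZero_homology]
  have h1 : IsZero (((Γc I).obj (CochainComplex.mappingCone φ)).homology n) :=
    IsZero.of_iso ((HomologicalComplex.exactAt_iff_isZero_homology _ _).1 (hφ n))
      (asIso (HomologicalComplex.homologyMap (ιc I (CochainComplex.mappingCone φ)) n))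
  exact IsZero.of_iso h1 ((HomologicalComplex.homologyFunctor _ _ n).mapIso
    (CochainComplex.mappingCone.mapHomologicalComplexIso φ (DRing.gammaI I)).symm)

variable [DRing.HasRgammaI I]

/-- **Lemma Q**: over a Noetherian ring, `RΓ_I` is computed by any complex of injectives. -/
theorem isIso_u_of_termInj [IsNoetherianRing A] (X : Cx A) (hX : TermInj X) : IsIso (u I X) := by
  obtain ⟨E, r, hE, hr, -, hinj⟩ := Groth.Agent.H33.KInj.exists_kInjective_resolution X
  have h1 : IsIso (DerivedCategory.Q.map r) := by
    rw [DerivedCategory.isIso_Q_map_iff_quasiIso]; exact hr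
  have h2 : IsIso (DerivedCategory.Q.map ((Γc I).map r)) := by
    rw [DerivedCategory.isIso_Q_map_iff_quasiIso]
    exact quasiIso_Γc_map I r hX hinj
  have h3 := isIso_u I E hE
  have nat := u_naturality I r
  have : u I X = DerivedCategory.Q.map ((Γc I).map r) ≫ u I E ≫
      inv ((DRing.RgammaI I).map (DerivedCategory.Q.map r)) := by
    rw [← Category.assoc, nat, Category.assoc, IsIso.hom_inv_id, Category.comp_id]
  rw [this]
  infer_instance

end Groth.Agent.H9.RG
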