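import Mathlib
import Groth.Agent.H9.RG.NoethQ

/-!
# `RΓ_I` is right adjoint to the inclusion of complexes with torsion cohomology (Noetherian case)
-/

set_option autoImplicit false
universe u
open CategoryTheory CategoryTheory.Limits

attribute [local instance] HasDerivedCategory.standard

namespace Groth.Agent.H9.RG

variable {A : Type u} [CommRing A] (I : Ideal A)

lemma isPowerTorsion_gammaI (M : ModuleCat.{u} A) :
    LocCoh.IsPowerTorsion I ((DRing.gammaI I).obj M) := by
  intro y
  obtain ⟨k, hk⟩ := (y : DRing.torsionSub I M).2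
  exact ⟨k, fun a ha => Subtype.ext (hk a ha)⟩

lemma cohTors_Γc (X : Cx A) : CohTors I ((Γc I).obj X) :=
  fun n => cx_isPowerTorsion_of_X I _ n (isPowerTorsion_gammaI I (X.X n))

/-- the property of having `I`-power torsion cohomology -/
abbrev TorsP : ObjectProperty (Dual.D A) :=
  fun L : Dual.D A => ∀ i : ℤ, LocCoh.IsPowerTorsion I (Dual.HD A L i)

lemma isIso_Γc_map_ιc (X : Cx A) : IsIso ((Γc I).map (ιc I X)) := by
  have : ∀ n, IsIso (((Γc I).map (ιc I X)).f n) := by
    intro n
    rw [ConcreteCategory.isIso_iff_bijective]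
    constructor
    · intro x y hxy
      apply Subtype.ext
      apply Subtype.ext
      exact congrArg Subtype.val hxy
    · intro y
      obtain ⟨k, hk⟩ := (y : DRing.torsionSub I (X.X n)).2
      exact ⟨⟨⟨(y : DRing.torsionSub I (X.X n)).1, ⟨k, hk⟩⟩, ⟨k, fun a ha => Subtype.ext (hk a ha)⟩⟩,
        Subtype.ext rfl⟩
  exact HomologicalComplex.Hom.isIso_of_components _

variable [DRing.HasRgammaI I]

theorem torsP_RgammaI (K : Dual.D A) : TorsP I ((DRing.RgammaI I).obj K) := by
  obtain ⟨E, hE, -, ⟨e⟩⟩ := exists_rep K
  have := isIso_u I E hE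
  have h0 : TorsP I (DerivedCategory.Q.obj ((Γc I).obj E)) :=
    (cohTors_iff I _).1 (cohTors_Γc I E)
  exact hd_isPowerTorsion_of_iso I
    (asIso (u I E) ≪≫ (DRing.RgammaI I).mapIso e.symm) h0

theorem isIso_RgammaI_map_ε [IsNoetherianRing A] (K : Dual.D A) :
    IsIso ((DRing.RgammaI I).map ((DRing.RgammaIε I).app K)) := by
  obtain ⟨E, hE, hinj, ⟨e⟩⟩ := exists_rep K
  have h1 := isIso_u I E hE
  have h2 := isIso_u_of_termInj I ((Γc I).obj E) (termInj_Γc I hinj)
  have h3 := isIso_Γc_map_ιc I E
  -- `RΓ_I(Q(ιc E))` is an isomorphism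
  have h4 : IsIso ((DRing.RgammaI I).map (DerivedCategory.Q.map (ιc I E))) := by
    have nat := u_naturality I (ιc I E)
    have : (DRing.RgammaI I).map (DerivedCategory.Q.map (ιc I E)) =
        inv (u I ((Γc I).obj E)) ≫ DerivedCategory.Q.map ((Γc I).map (ιc I E)) ≫ u I E := by
      rw [nat, IsIso.inv_hom_id_assoc]
    rw [this]
    infer_instance
  have h5 : IsIso ((DRing.RgammaI I).map ((DRing.RgammaIε I).app (DerivedCategory.Q.obj E))) := by
    have : (DRing.RgammaIε I).app (DerivedCategory.Q.obj E) =
        inv (u I E) ≫ DerivedCategory.Q.map (ιc I E) := by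
      rw [← u_comp_ε, IsIso.inv_hom_id_assoc]
    rw [this, Functor.map_comp]
    infer_instance
  have nat := (DRing.RgammaIε I).naturality e.hom
  have : (DRing.RgammaIε I).app K =
      (DRing.RgammaI I).map e.hom ≫ (DRing.RgammaIε I).app (DerivedCategory.Q.obj E) ≫ e.inv := by
    rw [← Category.assoc, nat]
    simp
  rw [this, Functor.map_comp, Functor.map_comp]
  infer_instance

/-- composition with `ε_K` is injective on maps from objects with torsion cohomology -/
lemma comp_ε_injective [IsNoetherianRing A] (L K : Dual.D A) (hL : TorsP I L)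
    (h₁ h₂ : L ⟶ (DRing.RgammaI I).obj K)
    (h : h₁ ≫ (DRing.RgammaIε I).app K = h₂ ≫ (DRing.RgammaIε I).app K) : h₁ = h₂ := by
  have := isIso_RgammaI_map_ε I K
  have := isIso_ε I L hL
  have e1 : (DRing.RgammaI I).map h₁ = (DRing.RgammaI I).map h₂ := by
    rw [← cancel_mono ((DRing.RgammaI I).map ((DRing.RgammaIε I).app K)), ← Functor.map_comp,
      ← Functor.map_comp, h]
  have n1 := (DRing.RgammaIε I).naturality h₁
  have n2 := (DRing.RgammaIε I).naturality h₂
  rw [← cancel_epi ((DRing.RgammaIε I).app L)]
  exact n1.symm.trans ((congrArg (· ≫ _) e1).trans n2)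

/-- **S1817**: the adjunction. -/
noncomputable def adj [IsNoetherianRing A] :
    ObjectProperty.ι (TorsP I) ⊣ ObjectProperty.lift (TorsP I) (DRing.RgammaI I) (torsP_RgammaI I) :=
  Adjunction.mkOfHomEquiv
    { homEquiv := fun L K =>
        { toFun := fun g =>
            haveI := isIso_ε I L.obj L.property
            ObjectProperty.homMk (inv ((DRing.RgammaIε I).app L.obj) ≫ (DRing.RgammaI I).map g)
          invFun := fun h => h.hom ≫ (DRing.RgammaIε I).app K
          left_inv := by
            intro g
            haveI := isIso_ε I L.obj L.property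
            have nat := (DRing.RgammaIε I).naturality g
            dsimp at nat ⊢
            rw [Category.assoc, nat, IsIso.inv_hom_id_assoc]
          right_inv := by
            intro h
            haveI := isIso_ε I L.obj L.property
            apply ObjectProperty.hom_ext
            apply comp_ε_injective I L.obj K L.property
            have nat := (DRing.RgammaIε I).naturality (h.hom ≫ (DRing.RgammaIε I).app K)
            dsimp at nat ⊢
            rw [Category.assoc, nat, IsIso.inv_hom_id_assoc] }
      homEquiv_naturality_left_symm := by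
        intro L' L K f g
        simp
      homEquiv_naturality_right := by
        intro L K K' f g
        apply ObjectProperty.hom_ext
        simp }

end Groth.Agent.H9.RG
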