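import Mathlib
import Groth.Agent.H9.RG.NoethQ

/-!
# `Γ_I`-adapted modules: `DivP`

`DivP M` says that for every ideal `K` and element `g`, the module `Γ_K M` maps onto its localization at
`g`.  Injective modules over Noetherian rings satisfy it, and so do restrictions of scalars of such.
All the results about `Γ_I` and complexes of injectives extend to complexes of `DivP`-modules.
-/

set_option autoImplicit false
universe u
open CategoryTheory CategoryTheory.Limits

attribute [local instance] HasDerivedCategory.standard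

namespace Groth.Agent.H9.RG

section Mod

variable {A : Type u} [CommRing A]

/-- for all `K`, `g`: `Γ_K M ⟶ (Γ_K M)_g` is surjective -/
def DivP (A : Type u) [CommRing A] (M : Type u) [AddCommGroup M] [Module A M] : Prop :=
  ∀ (K : Ideal A) (g : A) (y : M), y ∈ DRing.torsionSub K M → ∀ m : ℕ,
    ∃ (y' : M) (c : ℕ), y' ∈ DRing.torsionSub K M ∧ g ^ (c + m) • y' = g ^ c • y

variable {M N : Type u} [AddCommGroup M] [Module A M] [AddCommGroup N] [Module A N]

lemma mem_torsionSub_bot (y : M) : y ∈ DRing.torsionSub (⊥ : Ideal A) M := by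
  refine ⟨1, fun a ha => ?_⟩
  rw [pow_one, Ideal.mem_bot] at ha
  rw [ha, zero_smul]

lemma DivP.self (h : DivP A M) (g : A) (y : M) (m : ℕ) :
    ∃ (y' : M) (c : ℕ), g ^ (c + m) • y' = g ^ c • y := by
  obtain ⟨y', c, -, hc⟩ := h ⊥ g y (mem_torsionSub_bot y) m
  exact ⟨y', c, hc⟩

lemma DivP.torsionSub (h : DivP A M) (I : Ideal A) : DivP A (DRing.torsionSub I M) := by
  intro K g y hy m
  have h1 : (y : M) ∈ DRing.torsionSub (I ⊔ K) M := (torsionSubSupEquiv I K M ⟨y, hy⟩).2
  obtain ⟨y', c, hy', hc⟩ := h (I ⊔ K) g y.1 h1 m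
  let z := (torsionSubSupEquiv I K M).symm ⟨y', hy'⟩
  refine ⟨z.1, c, z.2, ?_⟩
  apply Subtype.ext
  exact hc

lemma divP_of_injective [IsNoetherianRing A] [Module.Injective A M] : DivP A M := by
  intro K g y hy m
  have := Groth.Agent.H58.LC.injective_torsionSub K M
  obtain ⟨y', c, hc⟩ :=
    Groth.Agent.H88.exists_pow_smul_eq_of_injective (DRing.torsionSub K M) g ⟨y, hy⟩ m
  exact ⟨y'.1, c, y'.2, congrArg Subtype.val hc⟩

lemma mem_torsionSub_of_linearMap (K : Ideal A) (f : M →ₗ[A] N) {y : M}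
    (hy : y ∈ DRing.torsionSub K M) : f y ∈ DRing.torsionSub K N := by
  obtain ⟨n, hn⟩ := hy
  exact ⟨n, fun a ha => by rw [← map_smul, hn a ha, map_zero]⟩

lemma DivP.of_linearEquiv (h : DivP A M) (e : M ≃ₗ[A] N) : DivP A N := by
  intro K g y hy m
  obtain ⟨y', c, hy', hc⟩ := h K g (e.symm y) (mem_torsionSub_of_linearMap K e.symm.toLinearMap hy) m
  refine ⟨e y', c, mem_torsionSub_of_linearMap K e.toLinearMap hy', ?_⟩
  rw [← map_smul, hc, map_smul, e.apply_symm_apply]

lemma DivP.prod (hM : DivP A M) (hN : DivP A N) : DivP A (M × N) := by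
  intro K g y hy m
  obtain ⟨y1, c1, hy1, hc1⟩ :=
    hM K g y.1 (mem_torsionSub_of_linearMap K (LinearMap.fst A M N) hy) m
  obtain ⟨y2, c2, hy2, hc2⟩ :=
    hN K g y.2 (mem_torsionSub_of_linearMap K (LinearMap.snd A M N) hy) m
  refine ⟨(y1, y2), c1 + c2, ?_, ?_⟩
  · obtain ⟨n1, hn1⟩ := hy1
    obtain ⟨n2, hn2⟩ := hy2
    refine ⟨n1 + n2, fun a ha => ?_⟩
    ext
    · exact hn1 a (Ideal.pow_le_pow_right (Nat.le_add_right n1 n2) ha)
    · exact hn2 a (Ideal.pow_le_pow_right (Nat.le_add_left n2 n1) ha)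
  · ext
    · show g ^ (c1 + c2 + m) • y1 = g ^ (c1 + c2) • y.1
      have : c1 + c2 + m = c2 + (c1 + m) := by omega
      rw [this, pow_add, mul_smul, hc1, ← mul_smul, ← pow_add, add_comm c2 c1]
    · show g ^ (c1 + c2 + m) • y2 = g ^ (c1 + c2) • y.2
      have : c1 + c2 + m = c1 + (c2 + m) := by omega
      rw [this, pow_add, mul_smul, hc2, ← mul_smul, ← pow_add]

end Mod

section Restrict

variable {A B : Type u} [CommRing A] [CommRing B] (φ : A →+* B)
  {M N : Type u} [AddCommGroup M] [Module A M] [AddCommGroup N] [Module B N]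

lemma mem_torsionSub_map_of_semilinear (e : M ≃+ N) (he : ∀ (a : A) (x : M), e (a • x) = φ a • e x)
    (K : Ideal A) {y : M} (hy : y ∈ DRing.torsionSub K M) :
    e y ∈ DRing.torsionSub (K.map φ) N := by
  obtain ⟨n, hn⟩ := hy
  refine ⟨n, ?_⟩
  have h1 : (K.map φ) ^ n ≤ LinearMap.ker (LinearMap.toSpanSingleton B N (e y)) := by
    rw [← Ideal.map_pow, Ideal.map_le_iff_le_comap]
    intro a ha
    rw [Ideal.mem_comap, LinearMap.mem_ker, LinearMap.toSpanSingleton_apply, ← he, hn a ha, map_zero]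
  intro b hb
  have := h1 hb
  rwa [LinearMap.mem_ker, LinearMap.toSpanSingleton_apply] at this

lemma mem_torsionSub_of_map_of_semilinear (e : M ≃+ N)
    (he : ∀ (a : A) (x : M), e (a • x) = φ a • e x)
    (K : Ideal A) {y : M} (hy : e y ∈ DRing.torsionSub (K.map φ) N) :
    y ∈ DRing.torsionSub K M := by
  obtain ⟨n, hn⟩ := hy
  refine ⟨n, fun a ha => ?_⟩
  apply e.injective
  rw [he, map_zero]
  apply hn
  rw [← Ideal.map_pow]
  exact Ideal.mem_map_of_mem φ ha

/-- restriction of scalars preserves `DivP` -/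
lemma DivP.of_semilinear (h : DivP B N) (e : M ≃+ N)
    (he : ∀ (a : A) (x : M), e (a • x) = φ a • e x) : DivP A M := by
  intro K g y hy m
  obtain ⟨z, c, hz, hc⟩ := h (K.map φ) (φ g) (e y) (mem_torsionSub_map_of_semilinear φ e he K hy) m
  refine ⟨e.symm z, c, mem_torsionSub_of_map_of_semilinear φ e he K (by rwa [e.apply_symm_apply]), ?_⟩
  apply e.injective
  rw [he, he, e.apply_symm_apply, map_pow, map_pow, hc]

end Restrict

section Cx

variable {A : Type u} [CommRing A] (I J : Ideal A)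

/-- termwise `DivP` complexes -/
def TermDiv (X : Cx A) : Prop := ∀ n : ℤ, DivP A (X.X n)

lemma termDiv_of_termInj [IsNoetherianRing A] {X : Cx A} (hX : TermInj X) : TermDiv X := by
  intro n
  have := moduleInjective_of_termInj hX n
  exact divP_of_injective

lemma termDiv_Γc {X : Cx A} (hX : TermDiv X) : TermDiv ((Γc I).obj X) :=
  fun n => (hX n).torsionSub I

lemma quasiIso_ιc_singleton_div (g : A) (X : Cx A) (hX : TermDiv X)
    (hT : CohTors (Ideal.span {g}) X) : QuasiIso (ιc (Ideal.span {g}) X) := by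
  have hT' : ∀ (i j k : ℤ) (_ : i + 1 = j) (_ : j + 1 = k) (z : X.X j), X.d j k z = 0 →
      ∃ (m : ℕ) (w : X.X i), X.d i j w = g ^ m • z := by
    intro i j k hij hjk z hz
    obtain ⟨m, hm⟩ := cx_exists_of_isPowerTorsion _ X i j k hij hjk (hT j) z hz
    obtain ⟨w, hw⟩ := hm (g ^ m) (Ideal.pow_mem_pow (Ideal.mem_span_singleton_self g) m)
    exact ⟨m, w, hw⟩
  have hP : ∀ (n : ℤ) (y : X.X n) (m : ℕ), ∃ (y' : X.X n) (c : ℕ),
      g ^ (c + m) • y' = g ^ c • y := fun n y m => (hX n).self g y m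
  have hdd : ∀ (i j k : ℤ) (x : X.X i), X.d j k (X.d i j x) = 0 := by
    intro i j k x
    have := congrArg (fun f => f.hom x) (X.d_comp_d i j k)
    exact this
  refine ⟨fun k => ?_⟩
  refine quasiIsoAt_of_elem (ιc _ X) (k - 1) k (k + 1) (by omega) rfl ?_ ?_
  · intro z hz hw
    obtain ⟨w, hw⟩ := hw
    rw [ιc_f_apply] at hw
    obtain ⟨c, hc⟩ := exists_pow_smul_eq_zero_of_mem (Ideal.span {g})
      (Ideal.mem_span_singleton_self g) (X.X k) z
    have hc' : g ^ c • (z : DRing.torsionSub (Ideal.span {g}) (X.X k)).1 = 0 :=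
      congrArg Subtype.val hc
    have hcyc : X.d (k - 1) k (g ^ c • w) = 0 := by rw [map_smul, hw, hc']
    obtain ⟨m, v, hv⟩ := hT' (k - 1 - 1) (k - 1) k (by omega) (by omega) (g ^ c • w) hcyc
    obtain ⟨v', e, he⟩ := hP (k - 1 - 1) v (m + c)
    have hw'' : g ^ (e + (m + c)) • (w - X.d (k - 1 - 1) (k - 1) v') = 0 := by
      rw [smul_sub, ← map_smul, he, map_smul, hv, ← mul_smul, ← mul_smul, ← pow_add, ← pow_add,
        ← add_assoc, sub_self]
    refine ⟨⟨w - X.d (k - 1 - 1) (k - 1) v', mem_torsionSub_singleton _ _ hw''⟩, ?_⟩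
    apply Subtype.ext
    show X.d (k - 1) k (w - X.d (k - 1 - 1) (k - 1) v') = _
    rw [map_sub, hdd, sub_zero, hw]
  · intro y hy
    obtain ⟨m, w, hw⟩ := hT' (k - 1) k (k + 1) (by omega) rfl y hy
    obtain ⟨w', c, hc⟩ := hP (k - 1) w m
    have hz : g ^ (c + m) • (y - X.d (k - 1) k w') = 0 := by
      rw [smul_sub, ← map_smul, hc, map_smul, hw, ← mul_smul, ← pow_add, sub_self]
    refine ⟨⟨y - X.d (k - 1) k w', mem_torsionSub_singleton _ _ hz⟩, ?_, w', ?_⟩
    · apply Subtype.ext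
      show X.d k (k + 1) (y - X.d (k - 1) k w') = 0
      rw [map_sub, hdd, sub_zero, hy]
    · show y = (y - X.d (k - 1) k w') + X.d (k - 1) k w'
      abel

/-- for a complex `X` of `DivP`-modules with `I`-power torsion cohomology (`I` finitely generated) the
inclusion `Γ_I X ⟶ X` is a quasi-isomorphism. -/
theorem quasiIso_ιc_div (hI : I.FG) (X : Cx A) (hX : TermDiv X) (hT : CohTors I X) :
    QuasiIso (ιc I X) := by
  revert X
  refine Submodule.fg_induction (R := A) (M := A)
    (motive := fun (I : Ideal A) _ => ∀ X : Cx A, TermDiv X → CohTors I X → QuasiIso (ιc I X))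
    (fun g X hX hT => quasiIso_ιc_singleton_div g X hX hT) ?_ I hI
  intro I J _ _ hI hJ X hX hT
  have q1 : QuasiIso (ιc I X) := hI X hX (cohTors_mono le_sup_left hT)
  have hT2 : CohTors J ((Γc I).obj X) :=
    cohTors_of_quasiIso J (ιc I X) (cohTors_mono le_sup_right hT)
  have q2 : QuasiIso (ιc J ((Γc I).obj X)) := hJ _ (termDiv_Γc I hX) hT2
  have e : ιc (I ⊔ J) X = (θ I J X).inv ≫ ιc J ((Γc I).obj X) ≫ ιc I X := by
    rw [← θ_hom_ιc, Iso.inv_hom_id_assoc]
  rw [e]
  infer_instance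

lemma termDiv_mappingCone {X Y : Cx A} (φ : X ⟶ Y) (hX : TermDiv X) (hY : TermDiv Y) :
    TermDiv (CochainComplex.mappingCone φ) := by
  intro n
  have h := (hX (n + 1)).prod (hY n)
  refine h.of_linearEquiv ?_
  exact ((ModuleCat.biprodIsoProd (X.X (n + 1)) (Y.X n)).symm ≪≫
    (HomologicalComplex.homotopyCofiber.XIsoBiprod φ n (n + 1) rfl).symm).toLinearEquiv

/-- `Γ_I` preserves quasi-isomorphisms between complexes of `DivP`-modules -/
lemma quasiIso_Γc_map_div (hI : I.FG) {X Y : Cx A} (φ : X ⟶ Y) [hφ : QuasiIso φ]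
    (hX : TermDiv X) (hY : TermDiv Y) : QuasiIso ((Γc I).map φ) := by
  rw [quasiIso_iff_exactAt_mappingCone] at hφ ⊢
  have hC : TermDiv (CochainComplex.mappingCone φ) := termDiv_mappingCone φ hX hY
  have hq : QuasiIso (ιc I (CochainComplex.mappingCone φ)) :=
    quasiIso_ιc_div I hI _ hC (cohTors_of_exactAt I hφ)
  intro n
  rw [HomologicalComplex.exactAt_iff_isZero_homology]
  have h1 : IsZero (((Γc I).obj (CochainComplex.mappingCone φ)).homology n) :=
    IsZero.of_iso ((HomologicalComplex.exactAt_iff_isZero_homology _ _).1 (hφ n))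
      (asIso (HomologicalComplex.homologyMap (ιc I (CochainComplex.mappingCone φ)) n))
  exact IsZero.of_iso h1 ((HomologicalComplex.homologyFunctor _ _ n).mapIso
    (CochainComplex.mappingCone.mapHomologicalComplexIso φ (DRing.gammaI I)).symm)

variable [DRing.HasRgammaI I]

/-- over a Noetherian ring, `RΓ_I` is computed by any complex of `DivP`-modules. -/
theorem isIso_u_of_termDiv [IsNoetherianRing A] (X : Cx A) (hX : TermDiv X) : IsIso (u I X) := by
  obtain ⟨E, r, hE, hr, -, hinj⟩ := Groth.Agent.H33.KInj.exists_kInjective_resolution X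
  have h1 : IsIso (DerivedCategory.Q.map r) := by
    rw [DerivedCategory.isIso_Q_map_iff_quasiIso]; exact hr
  have h2 : IsIso (DerivedCategory.Q.map ((Γc I).map r)) := by
    rw [DerivedCategory.isIso_Q_map_iff_quasiIso]
    exact quasiIso_Γc_map_div I (IsNoetherian.noetherian I) r hX (termDiv_of_termInj hinj)
  have h3 := isIso_u I E hE
  have nat := u_naturality I r
  have : u I X = DerivedCategory.Q.map ((Γc I).map r) ≫ u I E ≫
      inv ((DRing.RgammaI I).map (DerivedCategory.Q.map r)) := by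
    rw [← Category.assoc, nat, Category.assoc, IsIso.hom_inv_id, Category.comp_id]
  rw [this]
  infer_instance

end Cx

end Groth.Agent.H9.RG
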