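import Mathlib
import Groth.Agent.H9.RG.Div
import Groth.Agent.H9.RG.HDI3
import Groth.Prelude.Def_DDual2

/-!
# Local cohomology `HDI` and restriction of scalars (Noetherian case)
-/

set_option autoImplicit false
universe u
open CategoryTheory CategoryTheory.Limits

attribute [local instance] HasDerivedCategory.standard

namespace Groth.Agent.H9.RG

section General

variable {A : Type u} [CommRing A] (I : Ideal A)

/-- `HDI(Q X) ≃ H^q(Γ_I X)` for complexes of `DivP`-modules over a Noetherian ring -/
theorem nonempty_hdi_equiv_homology_of_termDiv [IsNoetherianRing A] (X : Cx A) (hX : TermDiv X)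
    (q : ℤ) :
    Nonempty (Dual2.HDI A I (DerivedCategory.Q.obj X) q ≃ₗ[A] ((Γc I).obj X).homology q) := by
  haveI := hasRgammaI I
  obtain ⟨e0⟩ := nonempty_hd_equiv_hdi I q (DerivedCategory.Q.obj X)
  have := isIso_u_of_termDiv I X hX
  have e1 : Dual.HD A ((DRing.RgammaI I).obj (DerivedCategory.Q.obj X)) q ≃ₗ[A]
      ((Γc I).obj X).homology q :=
    ((DerivedCategory.homologyFunctor (ModuleCat.{u} A) q).mapIso (asIso (u I X)).symm ≪≫
      (DerivedCategory.homologyFunctorFactors (ModuleCat.{u} A) q).app _).toLinearEquiv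
  exact ⟨e0.symm.trans e1⟩

/-- `HDI` is invariant under isomorphisms -/
theorem nonempty_hdi_iso_of_iso {K L : Dual.D A} (e : K ≅ L) (q : ℤ) :
    Nonempty (Dual2.HDI A I K q ≅ Dual2.HDI A I L q) :=
  ⟨HasColimit.isoOfNatIso (Functor.isoWhiskerLeft _
      ((linearYoneda A (Dual.D A)).mapIso ((shiftFunctor (Dual.D A) q).mapIso e)))⟩

end General

section Restrict

variable {A B : Type u} [CommRing A] [CommRing B] [Algebra A B] (I : Ideal A)

/-- termwise restriction of scalars -/
noncomputable abbrev resC : Cx B ⥤ Cx A :=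
  (ModuleCat.restrictScalars (algebraMap A B)).mapHomologicalComplex (ComplexShape.up ℤ)

lemma divP_restrictScalars (N : ModuleCat.{u} B) (h : DivP B N) :
    DivP A ((ModuleCat.restrictScalars (algebraMap A B)).obj N) :=
  DivP.of_semilinear (algebraMap A B) (N := N) h (AddEquiv.refl N) (fun _ _ => rfl)

lemma termDiv_resC [IsNoetherianRing B] {E : Cx B} (hE : TermInj E) :
    TermDiv ((resC (A := A)).obj E) := by
  intro n
  have := moduleInjective_of_termInj hE n
  exact divP_restrictScalars (E.X n) divP_of_injective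

/-- `Γ_I (res N) ≃ res (Γ_{IB} N)` -/
def torsionSubResEquiv (N : ModuleCat.{u} B) :
    DRing.torsionSub I ((ModuleCat.restrictScalars (algebraMap A B)).obj N) ≃ₗ[A]
      (ModuleCat.restrictScalars (algebraMap A B)).obj
        (ModuleCat.of B (DRing.torsionSub (I.map (algebraMap A B)) N)) where
  toFun x := ⟨x.1, mem_torsionSub_map_of_semilinear (algebraMap A B)
    (M := (ModuleCat.restrictScalars (algebraMap A B)).obj N) (N := N) (AddEquiv.refl N)
    (fun _ _ => rfl) I x.2⟩
  map_add' _ _ := rfl
  map_smul' _ _ := rfl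
  invFun y := ⟨y.1, mem_torsionSub_of_map_of_semilinear (algebraMap A B)
    (M := (ModuleCat.restrictScalars (algebraMap A B)).obj N) (N := N) (AddEquiv.refl N)
    (fun _ _ => rfl) I y.2⟩
  left_inv _ := rfl
  right_inv _ := rfl

/-- `Γ_I (res E) ≅ res (Γ_{IB} E)` for complexes -/
noncomputable def γres (E : Cx B) :
    (Γc I).obj ((resC (A := A)).obj E) ≅
      (resC (A := A)).obj ((Γc (I.map (algebraMap A B))).obj E) :=
  HomologicalComplex.Hom.isoOfComponents
    (fun n => (torsionSubResEquiv I (E.X n)).toModuleIso) (by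
      intro i j _
      ext x
      rfl)

/-- homology commutes with restriction of scalars -/
noncomputable def resHomologyIso (Y : Cx B) (q : ℤ) :
    ((resC (A := A)).obj Y).homology q ≅
      (ModuleCat.restrictScalars (algebraMap A B)).obj (Y.homology q) :=
  (Y.sc q).mapHomologyIso (ModuleCat.restrictScalars (algebraMap A B))

/-- restriction of scalars of a linear equivalence (universe-flexible) -/
def restrictScalarsLinearEquiv {M : ModuleCat.{u} B} {M' : ModuleCat.{u + 1} B} (e : M ≃ₗ[B] M') :
    (ModuleCat.restrictScalars (algebraMap A B)).obj M ≃ₗ[A]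
      (ModuleCat.restrictScalars (algebraMap A B)).obj M' where
  toFun := e
  invFun := e.symm
  map_add' := e.map_add
  map_smul' a x := e.map_smul (algebraMap A B a) x
  left_inv := e.left_inv
  right_inv := e.right_inv

theorem nonempty_hdi_restrict_iso [IsNoetherianRing A] [IsNoetherianRing B] (K : Dual.D B) (i : ℤ) :
    Nonempty (Dual2.HDI A I ((DRing.restrictD (algebraMap A B)).obj K) i ≅
      (ModuleCat.restrictScalars (algebraMap A B)).obj
        (Dual2.HDI B (I.map (algebraMap A B)) K i)) := by
  obtain ⟨E, hE, hinj, ⟨e⟩⟩ := exists_rep K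
  obtain ⟨e1⟩ := nonempty_hdi_iso_of_iso I ((DRing.restrictD (algebraMap A B)).mapIso e ≪≫
    (ModuleCat.restrictScalars (algebraMap A B)).mapDerivedCategoryFactors.app E) i
  obtain ⟨e2⟩ := nonempty_hdi_equiv_homology_of_termDiv I ((resC (A := A)).obj E)
    (termDiv_resC hinj) i
  haveI := hE
  obtain ⟨e3⟩ := nonempty_hdi_equiv_homology (I.map (algebraMap A B)) E i
  obtain ⟨e4⟩ := nonempty_hdi_iso_of_iso (I.map (algebraMap A B)) e i
  have e5 : ((Γc I).obj ((resC (A := A)).obj E)).homology i ≃ₗ[A]
      (ModuleCat.restrictScalars (algebraMap A B)).obj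
        (((Γc (I.map (algebraMap A B))).obj E).homology i) :=
    ((HomologicalComplex.homologyFunctor _ _ i).mapIso (γres I E) ≪≫
      resHomologyIso _ i).toLinearEquiv
  have e6 : ((Γc (I.map (algebraMap A B))).obj E).homology i ≃ₗ[B]
      Dual2.HDI B (I.map (algebraMap A B)) K i := e3.symm.trans e4.toLinearEquiv.symm
  exact ⟨(e1.toLinearEquiv.trans (e2.trans (e5.trans (restrictScalarsLinearEquiv e6)))).toModuleIso⟩

end Restrict

end Groth.Agent.H9.RG
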