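import Mathlib
import Groth.Agent.H9.RG.Restr

/-!
# `Γ_{IB}`-adapted `B`-modules, relative to a ring map `A → B`: `DivPRel`
-/

set_option autoImplicit false
universe u
open CategoryTheory CategoryTheory.Limits

attribute [local instance] HasDerivedCategory.standard

namespace Groth.Agent.H9.RG

section Mod

variable {A B : Type u} [CommRing A] [CommRing B] (φ : A →+* B)

/-- for all ideals `K` of `A` and `g : A`: `Γ_{KB} P ⟶ (Γ_{KB} P)_g` is surjective -/
def DivPRel (P : Type u) [AddCommGroup P] [Module B P] : Prop :=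
  ∀ (K : Ideal A) (g : A) (y : P), y ∈ DRing.torsionSub (K.map φ) P → ∀ m : ℕ,
    ∃ (y' : P) (c : ℕ), y' ∈ DRing.torsionSub (K.map φ) P ∧ (φ g) ^ (c + m) • y' = (φ g) ^ c • y

variable {P P' : Type u} [AddCommGroup P] [Module B P] [AddCommGroup P'] [Module B P']

lemma DivPRel.self {φ : A →+* B} (h : DivPRel φ P) (g : A) (y : P) (m : ℕ) :
    ∃ (y' : P) (c : ℕ), (φ g) ^ (c + m) • y' = (φ g) ^ c • y := by
  have h0 : y ∈ DRing.torsionSub ((⊥ : Ideal A).map φ) P := by
    rw [Ideal.map_bot]; exact mem_torsionSub_bot y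
  obtain ⟨y', c, -, hc⟩ := h ⊥ g y h0 m
  exact ⟨y', c, hc⟩

lemma DivPRel.torsionSub {φ : A →+* B} (h : DivPRel φ P) (I : Ideal A) :
    DivPRel φ (DRing.torsionSub (I.map φ) P) := by
  intro K g y hy m
  have h1 : (y : P) ∈ DRing.torsionSub ((I ⊔ K).map φ) P := by
    rw [Ideal.map_sup]
    exact (torsionSubSupEquiv (I.map φ) (K.map φ) P ⟨y, hy⟩).2
  obtain ⟨y', c, hy', hc⟩ := h (I ⊔ K) g y.1 h1 m
  rw [Ideal.map_sup] at hy'
  let z := (torsionSubSupEquiv (I.map φ) (K.map φ) P).symm ⟨y', hy'⟩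
  refine ⟨z.1, c, z.2, ?_⟩
  apply Subtype.ext
  exact hc

lemma DivP.rel (h : DivP B P) : DivPRel φ P :=
  fun K g y hy m => h (K.map φ) (φ g) y hy m

lemma DivPRel.of_linearEquiv {φ : A →+* B} (h : DivPRel φ P) (e : P ≃ₗ[B] P') : DivPRel φ P' := by
  intro K g y hy m
  obtain ⟨y', c, hy', hc⟩ :=
    h K g (e.symm y) (mem_torsionSub_of_linearMap _ e.symm.toLinearMap hy) m
  refine ⟨e y', c, mem_torsionSub_of_linearMap _ e.toLinearMap hy', ?_⟩
  rw [← map_smul, hc, map_smul, e.apply_symm_apply]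

lemma DivPRel.prod {φ : A →+* B} (hM : DivPRel φ P) (hN : DivPRel φ P') : DivPRel φ (P × P') := by
  intro K g y hy m
  obtain ⟨y1, c1, hy1, hc1⟩ :=
    hM K g y.1 (mem_torsionSub_of_linearMap _ (LinearMap.fst B P P') hy) m
  obtain ⟨y2, c2, hy2, hc2⟩ :=
    hN K g y.2 (mem_torsionSub_of_linearMap _ (LinearMap.snd B P P') hy) m
  refine ⟨(y1, y2), c1 + c2, ?_, ?_⟩
  · obtain ⟨n1, hn1⟩ := hy1
    obtain ⟨n2, hn2⟩ := hy2
    refine ⟨n1 + n2, fun a ha => ?_⟩
    ext
    · exact hn1 a (Ideal.pow_le_pow_right (Nat.le_add_right n1 n2) ha)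
    · exact hn2 a (Ideal.pow_le_pow_right (Nat.le_add_left n2 n1) ha)
  · ext
    · show (φ g) ^ (c1 + c2 + m) • y1 = (φ g) ^ (c1 + c2) • y.1
      have : c1 + c2 + m = c2 + (c1 + m) := by omega
      rw [this, pow_add, mul_smul, hc1, ← mul_smul, ← pow_add, add_comm c2 c1]
    · show (φ g) ^ (c1 + c2 + m) • y2 = (φ g) ^ (c1 + c2) • y.2
      have : c1 + c2 + m = c1 + (c2 + m) := by omega
      rw [this, pow_add, mul_smul, hc2, ← mul_smul, ← pow_add]

end Mod

section Cx

variable {A B : Type u} [CommRing A] [CommRing B] (φ : A →+* B) (I : Ideal A)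

/-- termwise `DivPRel` complexes -/
def TermDivRel (X : Cx B) : Prop := ∀ n : ℤ, DivPRel φ (X.X n)

lemma TermDiv.rel {X : Cx B} (hX : TermDiv X) : TermDivRel φ X := fun n => (hX n).rel φ

lemma termDivRel_Γc {X : Cx B} (hX : TermDivRel φ X) :
    TermDivRel φ ((Γc (I.map φ)).obj X) :=
  fun n => (hX n).torsionSub I

lemma quasiIso_ιc_singleton_of (g : B) (X : Cx B)
    (hP : ∀ (n : ℤ) (y : X.X n) (m : ℕ), ∃ (y' : X.X n) (c : ℕ), g ^ (c + m) • y' = g ^ c • y)
    (hT : CohTors (Ideal.span {g}) X) : QuasiIso (ιc (Ideal.span {g}) X) := by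
  have hT' : ∀ (i j k : ℤ) (_ : i + 1 = j) (_ : j + 1 = k) (z : X.X j), X.d j k z = 0 →
      ∃ (m : ℕ) (w : X.X i), X.d i j w = g ^ m • z := by
    intro i j k hij hjk z hz
    obtain ⟨m, hm⟩ := cx_exists_of_isPowerTorsion _ X i j k hij hjk (hT j) z hz
    obtain ⟨w, hw⟩ := hm (g ^ m) (Ideal.pow_mem_pow (Ideal.mem_span_singleton_self g) m)
    exact ⟨m, w, hw⟩
  have hdd : ∀ (i j k : ℤ) (x : X.X i), X.d j k (X.d i j x) = 0 := by
    intro i j k x
    have := congrArg (fun f => f.hom x) (X.d_comp_d i j k)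
    exact this
  refine ⟨fun k => ?_⟩
  refine quasiIsoAt_of_elem (ιc _ X) (k - 1) k (k + 1) (by omega) rfl ?_ ?_
  · intro z hz hw
    obtain ⟨w, hw⟩ := hw
    rw [ιc_f_apply] at hw
    obtain ⟨c, hc⟩ := exists_pow_smul_eq_zero_of_mem (Ideal.span {g})
      (Ideal.mem_span_singleton_self g) (X.X k) z
    have hc' : g ^ c • (z : DRing.torsionSub (Ideal.span {g}) (X.X k)).1 = 0 :=
      congrArg Subtype.val hc
    have hcyc : X.d (k - 1) k (g ^ c • w) = 0 := by rw [map_smul, hw, hc']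
    obtain ⟨m, v, hv⟩ := hT' (k - 1 - 1) (k - 1) k (by omega) (by omega) (g ^ c • w) hcyc
    obtain ⟨v', e, he⟩ := hP (k - 1 - 1) v (m + c)
    have hw'' : g ^ (e + (m + c)) • (w - X.d (k - 1 - 1) (k - 1) v') = 0 := by
      rw [smul_sub, ← map_smul, he, map_smul, hv, ← mul_smul, ← mul_smul, ← pow_add, ← pow_add,
        ← add_assoc, sub_self]
    refine ⟨⟨w - X.d (k - 1 - 1) (k - 1) v', mem_torsionSub_singleton _ _ hw''⟩, ?_⟩
    apply Subtype.ext
    show X.d (k - 1) k (w - X.d (k - 1 - 1) (k - 1) v') = _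
    rw [map_sub, hdd, sub_zero, hw]
  · intro y hy
    obtain ⟨m, w, hw⟩ := hT' (k - 1) k (k + 1) (by omega) rfl y hy
    obtain ⟨w', c, hc⟩ := hP (k - 1) w m
    have hz : g ^ (c + m) • (y - X.d (k - 1) k w') = 0 := by
      rw [smul_sub, ← map_smul, hc, map_smul, hw, ← mul_smul, ← pow_add, sub_self]
    refine ⟨⟨y - X.d (k - 1) k w', mem_torsionSub_singleton _ _ hz⟩, ?_, w', ?_⟩
    · apply Subtype.ext
      show X.d k (k + 1) (y - X.d (k - 1) k w') = 0
      rw [map_sub, hdd, sub_zero, hy]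
    · show y = (y - X.d (k - 1) k w') + X.d (k - 1) k w'
      abel

/-- for a complex `X` of `DivPRel`-modules over `B` with `IB`-power torsion cohomology (`I`
finitely generated) the inclusion `Γ_{IB} X ⟶ X` is a quasi-isomorphism. -/
theorem quasiIso_ιc_rel (hI : I.FG) (X : Cx B) (hX : TermDivRel φ X)
    (hT : CohTors (I.map φ) X) : QuasiIso (ιc (I.map φ) X) := by
  revert X
  refine Submodule.fg_induction (R := A) (M := A)
    (motive := fun (I : Ideal A) _ => ∀ X : Cx B, TermDivRel φ X → CohTors (Ideal.map φ I) X →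
      QuasiIso (ιc (Ideal.map φ I) X)) ?_ ?_ I hI
  · intro g X hX hT
    have e : Ideal.map φ (Ideal.span {g} : Ideal A) = Ideal.span {φ g} := by
      rw [Ideal.map_span, Set.image_singleton]
    have e' : Ideal.map φ (Submodule.span A {g} : Ideal A) = Ideal.span {φ g} := e
    rw [e'] at hT ⊢
    exact quasiIso_ιc_singleton_of (φ g) X (fun n y m => (hX n).self g y m) hT
  · intro I J _ _ hI hJ X hX hT
    have e0 : Ideal.map φ (I ⊔ J) = Ideal.map φ I ⊔ Ideal.map φ J := Ideal.map_sup _ _ _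
    rw [e0] at hT ⊢
    have q1 : QuasiIso (ιc (Ideal.map φ I) X) := hI X hX (cohTors_mono le_sup_left hT)
    have hT2 : CohTors (Ideal.map φ J) ((Γc (Ideal.map φ I)).obj X) :=
      cohTors_of_quasiIso (Ideal.map φ J) (ιc (Ideal.map φ I) X) (cohTors_mono le_sup_right hT)
    have q2 : QuasiIso (ιc (Ideal.map φ J) ((Γc (Ideal.map φ I)).obj X)) :=
      hJ _ (termDivRel_Γc φ I hX) hT2
    have e : ιc (Ideal.map φ I ⊔ Ideal.map φ J) X =
        (θ (Ideal.map φ I) (Ideal.map φ J) X).inv ≫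
          ιc (Ideal.map φ J) ((Γc (Ideal.map φ I)).obj X) ≫ ιc (Ideal.map φ I) X := by
      rw [← θ_hom_ιc, Iso.inv_hom_id_assoc]
    rw [e]
    infer_instance

lemma termDivRel_mappingCone {X Y : Cx B} (f : X ⟶ Y) (hX : TermDivRel φ X)
    (hY : TermDivRel φ Y) : TermDivRel φ (CochainComplex.mappingCone f) := by
  intro n
  have h := (hX (n + 1)).prod (hY n)
  refine h.of_linearEquiv ?_
  exact ((ModuleCat.biprodIsoProd (X.X (n + 1)) (Y.X n)).symm ≪≫
    (HomologicalComplex.homotopyCofiber.XIsoBiprod f n (n + 1) rfl).symm).toLinearEquiv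

/-- `Γ_{IB}` preserves quasi-isomorphisms between complexes of `DivPRel`-modules -/
lemma quasiIso_Γc_map_rel (hI : I.FG) {X Y : Cx B} (f : X ⟶ Y) [hf : QuasiIso f]
    (hX : TermDivRel φ X) (hY : TermDivRel φ Y) : QuasiIso ((Γc (I.map φ)).map f) := by
  rw [quasiIso_iff_exactAt_mappingCone] at hf ⊢
  have hC : TermDivRel φ (CochainComplex.mappingCone f) := termDivRel_mappingCone φ f hX hY
  have hq : QuasiIso (ιc (I.map φ) (CochainComplex.mappingCone f)) :=
    quasiIso_ιc_rel φ I hI _ hC (cohTors_of_exactAt _ hf)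
  intro n
  rw [HomologicalComplex.exactAt_iff_isZero_homology]
  have h1 : IsZero (((Γc (I.map φ)).obj (CochainComplex.mappingCone f)).homology n) :=
    IsZero.of_iso ((HomologicalComplex.exactAt_iff_isZero_homology _ _).1 (hf n))
      (asIso (HomologicalComplex.homologyMap (ιc (I.map φ) (CochainComplex.mappingCone f)) n))
  exact IsZero.of_iso h1 ((HomologicalComplex.homologyFunctor _ _ n).mapIso
    (CochainComplex.mappingCone.mapHomologicalComplexIso f (DRing.gammaI (I.map φ))).symm)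

/-- `RΓ_{IB}` is computed by any complex of `DivPRel`-modules. -/
theorem isIso_u_of_termDivRel [DRing.HasRgammaI (I.map φ)] [IsNoetherianRing B] (hI : I.FG)
    (X : Cx B) (hX : TermDivRel φ X) : IsIso (u (I.map φ) X) := by
  obtain ⟨E, r, hE, hr, -, hinj⟩ := Groth.Agent.H33.KInj.exists_kInjective_resolution X
  have h1 : IsIso (DerivedCategory.Q.map r) := by
    rw [DerivedCategory.isIso_Q_map_iff_quasiIso]; exact hr
  have h2 : IsIso (DerivedCategory.Q.map ((Γc (I.map φ)).map r)) := by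
    rw [DerivedCategory.isIso_Q_map_iff_quasiIso]
    exact quasiIso_Γc_map_rel φ I hI r hX ((termDiv_of_termInj hinj).rel φ)
  have h3 := isIso_u (I.map φ) E hE
  have nat := u_naturality (I.map φ) r
  have : u (I.map φ) X = DerivedCategory.Q.map ((Γc (I.map φ)).map r) ≫ u (I.map φ) E ≫
      inv ((DRing.RgammaI (I.map φ)).map (DerivedCategory.Q.map r)) := by
    rw [← Category.assoc, nat, Category.assoc, IsIso.hom_inv_id, Category.comp_id]
  rw [this]
  infer_instance

/-- `HDI(Q X) ≃ H^q(Γ_{IB} X)` for complexes of `DivPRel`-modules -/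
theorem nonempty_hdi_equiv_homology_of_termDivRel [IsNoetherianRing B] (hI : I.FG) (X : Cx B)
    (hX : TermDivRel φ X) (q : ℤ) :
    Nonempty (Dual2.HDI B (I.map φ) (DerivedCategory.Q.obj X) q ≃ₗ[B]
      ((Γc (I.map φ)).obj X).homology q) := by
  haveI := hasRgammaI (I.map φ)
  obtain ⟨e0⟩ := nonempty_hd_equiv_hdi (I.map φ) q (DerivedCategory.Q.obj X)
  have := isIso_u_of_termDivRel φ I hI X hX
  have e1 : Dual.HD B ((DRing.RgammaI (I.map φ)).obj (DerivedCategory.Q.obj X)) q ≃ₗ[B]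
      ((Γc (I.map φ)).obj X).homology q :=
    ((DerivedCategory.homologyFunctor (ModuleCat.{u} B) q).mapIso (asIso (u (I.map φ) X)).symm ≪≫
      (DerivedCategory.homologyFunctorFactors (ModuleCat.{u} B) q).app _).toLinearEquiv
  exact ⟨e0.symm.trans e1⟩

end Cx

end Groth.Agent.H9.RG
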