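import Mathlib
import Groth.Agent.H9.RG.DivRel
import Groth.Agent.H58.LCFlat2
import Groth.Agent.H35.FlatBaseChangeD
import Groth.Agent.H12.BridgeW

/-!
# Local cohomology `HDI` and flat base change (Noetherian case)
-/

set_option autoImplicit false
universe u
open CategoryTheory CategoryTheory.Limits TensorProduct

attribute [local instance] HasDerivedCategory.standard

namespace Groth.Agent.H9.RG

section Tensor

variable {A : Type u} [CommRing A] {N M : Type u} [AddCommGroup N] [Module A N]
  [AddCommGroup M] [Module A M]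

/-- divisibility up to torsion passes to tensor products -/
lemma exists_pow_smul_tensor (g : A)
    (hM : ∀ (y : M) (m : ℕ), ∃ (y' : M) (c : ℕ), g ^ (c + m) • y' = g ^ c • y)
    (t : N ⊗[A] M) (m : ℕ) :
    ∃ (t' : N ⊗[A] M) (c : ℕ), g ^ (c + m) • t' = g ^ c • t := by
  induction t using TensorProduct.induction_on with
  | zero => exact ⟨0, 0, by simp⟩
  | tmul b n =>
    obtain ⟨n', c, hc⟩ := hM n m
    exact ⟨b ⊗ₜ n', c, by rw [← TensorProduct.tmul_smul, hc, TensorProduct.tmul_smul]⟩
  | add t1 t2 h1 h2 =>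
    obtain ⟨t1', c1, hc1⟩ := h1
    obtain ⟨t2', c2, hc2⟩ := h2
    refine ⟨t1' + t2', c1 + c2, ?_⟩
    have e1 : c1 + c2 + m = c2 + (c1 + m) := by omega
    have e2 : c1 + c2 + m = c1 + (c2 + m) := by omega
    rw [smul_add, smul_add]
    congr 1
    · rw [e1, pow_add, mul_smul, hc1, ← mul_smul, ← pow_add, add_comm c2 c1]
    · rw [e2, pow_add, mul_smul, hc2, ← mul_smul, ← pow_add]

end Tensor

section Flat

variable {A B : Type u} [CommRing A] [CommRing B] [Algebra A B] (I : Ideal A)

lemma divPRel_tensor [IsNoetherianRing A] [Module.Flat A B] (M : Type u) [AddCommGroup M]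
    [Module A M] [Module.Injective A M] : DivPRel (algebraMap A B) (B ⊗[A] M) := by
  intro K g y hy m
  obtain ⟨t, rfl⟩ := Groth.Agent.H58.LC.mem_range_tauBC K M y hy
  have := Groth.Agent.H58.LC.injective_torsionSub K M
  obtain ⟨t', c, hc⟩ := exists_pow_smul_tensor (N := B) (M := DRing.torsionSub K M) g
    (fun y m => Groth.Agent.H88.exists_pow_smul_eq_of_injective (DRing.torsionSub K M) g y m) t m
  refine ⟨Groth.Agent.H58.LC.tauBC K M t', c, Groth.Agent.H58.LC.tauBC_mem K M t', ?_⟩
  have hc' : (algebraMap A B g) ^ (c + m) • t' = (algebraMap A B g) ^ c • t := by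
    rw [← map_pow, ← map_pow, algebraMap_smul, algebraMap_smul, hc]
  rw [← map_smul, hc', map_smul]

/-- extension of scalars along `A → B` -/
noncomputable abbrev ext (A B : Type u) [CommRing A] [CommRing B] [Algebra A B] :
    ModuleCat.{u} A ⥤ ModuleCat.{u} B :=
  ModuleCat.extendScalars.{u, u, u} (algebraMap A B)

/-- termwise extension of scalars -/
noncomputable abbrev extC : Cx A ⥤ Cx B :=
  (ext A B).mapHomologicalComplex (ComplexShape.up ℤ)

lemma divPRel_extendScalars [IsNoetherianRing A] [Module.Flat A B] (N : ModuleCat.{u} A)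
    [Module.Injective A N] : DivPRel (algebraMap A B) ((ext A B).obj N) :=
  (divPRel_tensor (B := B) N).of_linearEquiv (H12.BC.bridge (B := B) N).symm

lemma termDivRel_extC [IsNoetherianRing A] [Module.Flat A B] {E : Cx A} (hE : TermInj E) :
    TermDivRel (algebraMap A B) ((extC (B := B)).obj E) := by
  intro n
  have := moduleInjective_of_termInj hE n
  exact divPRel_extendScalars (E.X n)

lemma bridge_map_ι (M : ModuleCat.{u} A) (t : (ext A B).obj ((DRing.gammaI I).obj M)) :
    H12.BC.bridge (B := B) M (((ext A B).map ((DRing.gammaIι I).app M)).hom t) =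
      H58.LC.tauBC I M (H12.BC.bridge (B := B) ((DRing.gammaI I).obj M) t) :=
  H12.BW.bridge_natural B ((DRing.gammaIι I).app M) t

variable [IsNoetherianRing A] [Module.Flat A B]

lemma map_ι_mem (M : ModuleCat.{u} A) (t : (ext A B).obj ((DRing.gammaI I).obj M)) :
    ((ext A B).map ((DRing.gammaIι I).app M)).hom t ∈
      DRing.torsionSub (I.map (algebraMap A B)) ((ext A B).obj M) := by
  have h := H58.LC.tauBC_mem (R' := B) I M (H12.BC.bridge (B := B) _ t)
  rw [← bridge_map_ι] at h
  have := mem_torsionSub_of_linearMap _ (H12.BC.bridge (B := B) M).symm.toLinearMap h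
  rwa [LinearEquiv.coe_coe, LinearEquiv.symm_apply_apply] at this

/-- `B ⊗ Γ_I M ⟶ Γ_{IB} (B ⊗ M)` -/
noncomputable def βhom (M : ModuleCat.{u} A) :
    (ext A B).obj ((DRing.gammaI I).obj M) →ₗ[B]
      DRing.torsionSub (I.map (algebraMap A B)) ((ext A B).obj M) :=
  LinearMap.codRestrict _ ((ext A B).map ((DRing.gammaIι I).app M)).hom (map_ι_mem I M)

lemma βhom_bijective (M : ModuleCat.{u} A) : Function.Bijective (βhom (B := B) I M) := by
  constructor
  · rw [← LinearMap.ker_eq_bot, LinearMap.ker_eq_bot']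
    intro t ht
    have h1 : ((ext A B).map ((DRing.gammaIι I).app M)).hom t = 0 := congrArg Subtype.val ht
    have h2 := bridge_map_ι (B := B) I M t
    rw [h1, map_zero] at h2
    have h3 := H58.LC.tauBC_injective (R' := B) I M (h2.symm.trans (map_zero _).symm)
    exact (H12.BC.bridge (B := B) _).injective (h3.trans (map_zero _).symm)
  · intro y
    have hy : H12.BC.bridge (B := B) M y.1 ∈
        DRing.torsionSub (I.map (algebraMap A B)) (B ⊗[A] M) :=
      mem_torsionSub_of_linearMap _ (H12.BC.bridge (B := B) M).toLinearMap y.2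
    obtain ⟨s, hs⟩ := H58.LC.mem_range_tauBC I M _ hy
    refine ⟨(H12.BC.bridge (B := B) _).symm s, ?_⟩
    apply Subtype.ext
    apply (H12.BC.bridge (B := B) M).injective
    show H12.BC.bridge (B := B) M (((ext A B).map ((DRing.gammaIι I).app M)).hom _) = _
    rw [bridge_map_ι, LinearEquiv.apply_symm_apply, hs]

/-- `B ⊗ Γ_I M ≅ Γ_{IB} (B ⊗ M)` -/
noncomputable def βiso (M : ModuleCat.{u} A) :
    (ext A B).obj ((DRing.gammaI I).obj M) ≅
      (DRing.gammaI (I.map (algebraMap A B))).obj ((ext A B).obj M) :=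
  (LinearEquiv.ofBijective (βhom (B := B) I M) (βhom_bijective I M)).toModuleIso

lemma βiso_hom_apply (M : ModuleCat.{u} A) (t : (ext A B).obj ((DRing.gammaI I).obj M)) :
    (((βiso (B := B) I M).hom.hom t :
      DRing.torsionSub (I.map (algebraMap A B)) ((ext A B).obj M))).1 =
      ((ext A B).map ((DRing.gammaIι I).app M)).hom t := rfl

lemma βiso_naturality {M N : ModuleCat.{u} A} (f : M ⟶ N) :
    (ext A B).map ((DRing.gammaI I).map f) ≫ (βiso (B := B) I N).hom =
      (βiso (B := B) I M).hom ≫
        (DRing.gammaI (I.map (algebraMap A B))).map ((ext A B).map f) := by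
  have h : (ext A B).map ((DRing.gammaI I).map f) ≫ (ext A B).map ((DRing.gammaIι I).app N) =
      (ext A B).map ((DRing.gammaIι I).app M) ≫ (ext A B).map f := by
    rw [← Functor.map_comp, ← Functor.map_comp]
    congr 1
  apply ModuleCat.hom_ext
  apply LinearMap.ext
  intro x
  apply Subtype.ext
  exact congrArg (fun k => k.hom x) h

/-- `B ⊗ Γ_I E ≅ Γ_{IB} (B ⊗ E)` for complexes -/
noncomputable def γext (E : Cx A) :
    (extC (B := B)).obj ((Γc I).obj E) ≅
      (Γc (I.map (algebraMap A B))).obj ((extC (B := B)).obj E) :=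
  HomologicalComplex.Hom.isoOfComponents (fun n => βiso I (E.X n))
    (fun i j _ => (βiso_naturality I (E.d i j)).symm)

/-- homology commutes with flat extension of scalars -/
noncomputable def extHomologyIso (Y : Cx A) (q : ℤ) :
    ((extC (B := B)).obj Y).homology q ≅ (ext A B).obj (Y.homology q) :=
  (Y.sc q).mapHomologyIso (ext A B)

end Flat

end Groth.Agent.H9.RG
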