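import Mathlib
import Groth.Agent.H9.RG.FlatBC

/-!
# Local cohomology `HDI` and flat base change: the main theorem
-/

set_option autoImplicit false
universe u
open CategoryTheory CategoryTheory.Limits TensorProduct

attribute [local instance] HasDerivedCategory.standard

namespace Groth.Agent.H9.RG

variable {A B : Type u} [CommRing A] [CommRing B] [Algebra A B] (I : Ideal A)

section

variable [Module.Flat A B]

/-- for flat `A → B`, derived base change is induced by the exact functor `B ⊗_A -` -/
noncomputable def lbcIso [DRing.HasLBaseChange (algebraMap A B)] :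
    DRing.LBaseChange (algebraMap A B) ≅ (ext A B).mapDerivedCategory := by
  haveI : (ext A B).mapDerivedCategory.IsLeftDerivedFunctor
      (ext A B).mapDerivedCategoryFactorsh.hom
      (HomotopyCategory.quasiIso (ModuleCat.{u} A) (ComplexShape.up ℤ)) :=
    Functor.isLeftDerivedFunctor_of_inverts _ _ (ext A B).mapDerivedCategoryFactorsh
  exact Functor.leftDerivedUnique _ _
    ((DRing.baseChangeKh (algebraMap A B)).totalLeftDerivedCounit DerivedCategory.Qh
      (HomotopyCategory.quasiIso (ModuleCat.{u} A) (ComplexShape.up ℤ)))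
    (ext A B).mapDerivedCategoryFactorsh.hom
    (HomotopyCategory.quasiIso (ModuleCat.{u} A) (ComplexShape.up ℤ))

end

/-- the `A`-linear equivalence underlying `extendScalarsLinearEquiv` -/
noncomputable def extCongrA {M : ModuleCat.{u} A} {M' : ModuleCat.{u + 1} A} (e : M ≃ₗ[A] M') :
    TensorProduct A ((ModuleCat.restrictScalars (algebraMap A B)).obj (ModuleCat.of B B)) M ≃ₗ[A]
      TensorProduct A ((ModuleCat.restrictScalars (algebraMap A B)).obj (ModuleCat.of B B)) M' :=
  TensorProduct.congr (LinearEquiv.refl A _) e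

theorem extCongrA_smul {M : ModuleCat.{u} A} {M' : ModuleCat.{u + 1} A} (e : M ≃ₗ[A] M') (b : B)
    (t : (ModuleCat.extendScalars (algebraMap A B)).obj M) :
    extCongrA (B := B) e
      (HSMul.hSMul (α := B) (β := ↑((ModuleCat.extendScalars (algebraMap A B)).obj M)) b t) =
      HSMul.hSMul (α := B) (β := ↑((ModuleCat.extendScalars (algebraMap A B)).obj M')) b
        (extCongrA (B := B) e t) := by
  refine TensorProduct.induction_on
    (motive := fun t => extCongrA (B := B) e
      (HSMul.hSMul (α := B) (β := ↑((ModuleCat.extendScalars (algebraMap A B)).obj M)) b t) =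
      HSMul.hSMul (α := B) (β := ↑((ModuleCat.extendScalars (algebraMap A B)).obj M')) b
        (extCongrA (B := B) e t)) t ?_ ?_ ?_
  · have h0 : (HSMul.hSMul (α := B) (β := ↑((ModuleCat.extendScalars (algebraMap A B)).obj M)) b 0)
        = 0 := smul_zero b
    have h1 : (HSMul.hSMul (α := B) (β := ↑((ModuleCat.extendScalars (algebraMap A B)).obj M')) b 0)
        = 0 := smul_zero b
    rw [map_zero]
    exact ((congrArg _ h0).trans (map_zero _)).trans h1.symm
  · intro s n
    rfl
  · intro x y hx hy
    have h0 : (HSMul.hSMul (α := B) (β := ↑((ModuleCat.extendScalars (algebraMap A B)).obj M)) b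
        (x + y)) = HSMul.hSMul (α := B) (β := ↑((ModuleCat.extendScalars (algebraMap A B)).obj M)) b x
          + HSMul.hSMul (α := B) (β := ↑((ModuleCat.extendScalars (algebraMap A B)).obj M)) b y :=
      smul_add b _ _
    have h1 : ∀ x' y' : ↑((ModuleCat.extendScalars (algebraMap A B)).obj M'),
        (HSMul.hSMul (α := B) (β := ↑((ModuleCat.extendScalars (algebraMap A B)).obj M')) b
        (x' + y')) = HSMul.hSMul (α := B) (β := ↑((ModuleCat.extendScalars (algebraMap A B)).obj M')) b x'
          + HSMul.hSMul (α := B) (β := ↑((ModuleCat.extendScalars (algebraMap A B)).obj M')) b y' :=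
      fun x' y' => smul_add b _ _
    rw [map_add]
    refine (congrArg _ h0).trans ?_
    exact ((map_add (extCongrA (B := B) e) _ _).trans (congrArg₂ (· + ·) hx hy)).trans
      (h1 _ _).symm

/-- extension of scalars of a linear equivalence (universe-flexible) -/
noncomputable def extendScalarsLinearEquiv {M : ModuleCat.{u} A} {M' : ModuleCat.{u + 1} A}
    (e : M ≃ₗ[A] M') :
    (ModuleCat.extendScalars.{u, u, u} (algebraMap A B)).obj M ≃ₗ[B]
      (ModuleCat.extendScalars (algebraMap A B)).obj M' :=
  { (extCongrA (B := B) e).toAddEquiv with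
    map_smul' := extCongrA_smul e }

theorem nonempty_hdi_baseChange_iso [IsNoetherianRing A] [IsNoetherianRing B] [Module.Flat A B]
    [DRing.HasLBaseChange (algebraMap A B)] (K : Dual.D A) (i : ℤ) :
    Nonempty (Dual2.HDI B (I.map (algebraMap A B))
        ((DRing.LBaseChange (algebraMap A B)).obj K) i ≅
      (ModuleCat.extendScalars (algebraMap A B)).obj (Dual2.HDI A I K i)) := by
  obtain ⟨E, hE, hinj, ⟨e⟩⟩ := exists_rep K
  obtain ⟨e1⟩ := nonempty_hdi_iso_of_iso (I.map (algebraMap A B))
    ((DRing.LBaseChange (algebraMap A B)).mapIso e ≪≫ (lbcIso (A := A) (B := B)).app _ ≪≫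
      (ext A B).mapDerivedCategoryFactors.app E) i
  obtain ⟨e2⟩ := nonempty_hdi_equiv_homology_of_termDivRel (algebraMap A B) I
    (IsNoetherian.noetherian I) ((extC (B := B)).obj E) (termDivRel_extC hinj) i
  haveI := hE
  obtain ⟨e3⟩ := nonempty_hdi_equiv_homology I E i
  obtain ⟨e4⟩ := nonempty_hdi_iso_of_iso I e i
  have e5 : ((Γc (I.map (algebraMap A B))).obj ((extC (B := B)).obj E)).homology i ≃ₗ[B]
      (ext A B).obj (((Γc I).obj E).homology i) :=
    ((HomologicalComplex.homologyFunctor _ _ i).mapIso (γext I E).symm ≪≫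
      extHomologyIso _ i).toLinearEquiv
  have e6 : ((Γc I).obj E).homology i ≃ₗ[A] Dual2.HDI A I K i :=
    e3.symm.trans e4.toLinearEquiv.symm
  exact ⟨(e1.toLinearEquiv.trans (e2.trans (e5.trans (extendScalarsLinearEquiv e6)))).toModuleIso⟩

end Groth.Agent.H9.RG
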